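import Cfsg.Agent.Lib.Coprime.PiClasses
import Cfsg.Agent.Lib.Solvable.NilpotentHall
import Cfsg.Agent.Lib.Char.Linear
import Cfsg.Agent.Lib.Char.Integral
import Mathlib.Tactic

/-!
# Counting classes of `π`-elements: basic tools
-/

set_option autoImplicit false

namespace CfsgLib.StructB.PiHall

open Subgroup CfsgLib.Coprime
open scoped Pointwise commutatorElement

universe u

/-- The classes meeting a subgroup. -/
noncomputable def meet {G : Type u} [Group G] (K : Subgroup G) : ℕ :=
  Set.ncard (ConjClasses.mk '' (K : Set G))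

section PiPart

variable {π : Finset ℕ}

theorem piPart_ne_zero (hπ : ∀ r ∈ π, r.Prime) (n : ℕ) : piPart π n ≠ 0 :=
  Finset.prod_ne_zero_iff.2 fun r hr => pow_ne_zero _ (hπ r hr).ne_zero

theorem piPart_factorization (hπ : ∀ r ∈ π, r.Prime) (n s : ℕ) :
    (piPart π n).factorization s = if s ∈ π then n.factorization s else 0 := by
  classical
  rw [piPart, Nat.factorization_prod fun r hr => pow_ne_zero _ (hπ r hr).ne_zero,
    Finset.sum_congr rfl fun r hr => (hπ r hr).factorization_pow, Finsupp.finsetSum_apply]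
  simp [Finsupp.single_apply]

theorem piPart_dvd (hπ : ∀ r ∈ π, r.Prime) {n : ℕ} (hn : n ≠ 0) : piPart π n ∣ n := by
  rw [← Nat.factorization_le_iff_dvd (piPart_ne_zero hπ n) hn]
  intro s
  rw [piPart_factorization hπ]
  split_ifs <;> simp

theorem mem_of_dvd_piPart (hπ : ∀ r ∈ π, r.Prime) {n s : ℕ} (hs : s.Prime)
    (h : s ∣ piPart π n) : s ∈ π := by
  by_contra hne
  have := hs.factorization_pos_of_dvd (piPart_ne_zero hπ n) h
  rw [piPart_factorization hπ, if_neg hne] at this
  omega

theorem piPart_dvd_piPart (hπ : ∀ r ∈ π, r.Prime) {a b : ℕ} (h : a ∣ b) (hb : b ≠ 0) :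
    piPart π a ∣ piPart π b := by
  rw [← Nat.factorization_le_iff_dvd (piPart_ne_zero hπ a) (piPart_ne_zero hπ b)]
  intro s
  rw [piPart_factorization hπ, piPart_factorization hπ]
  split_ifs
  · exact ((Nat.factorization_le_iff_dvd (ne_zero_of_dvd_ne_zero hb h) hb).2 h) s
  · exact le_rfl

/-- Different parts differ at least by the least prime. -/
theorem eq_or_mul_le (hπ : ∀ r ∈ π, r.Prime) {p : ℕ} (hp : ∀ r ∈ π, p ≤ r) {n d : ℕ}
    (hd : d ∣ piPart π n) : d = piPart π n ∨ p * d ≤ piPart π n := by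
  obtain ⟨t, ht⟩ := hd
  by_cases h1 : t = 1
  · exact Or.inl (by rw [ht, h1, mul_one])
  refine Or.inr ?_
  have hmem := mem_of_dvd_piPart hπ (Nat.minFac_prime h1)
    (by rw [ht]; exact (Nat.minFac_dvd t).mul_left d)
  have ht0 : t ≠ 0 := fun e => piPart_ne_zero hπ n (by rw [ht, e, mul_zero])
  rw [ht, mul_comm p d]
  exact Nat.mul_le_mul_left _ ((hp _ hmem).trans (Nat.minFac_le (Nat.pos_of_ne_zero ht0)))

variable {G : Type u} [Group G] [Finite G]

theorem dvd_piPart_of_subgroup (hπ : ∀ r ∈ π, r.Prime) (U : Subgroup G)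
    (hU : ∀ r : ℕ, r.Prime → r ∣ Nat.card U → r ∈ π) : Nat.card U ∣ piPart π (Nat.card G) := by
  rw [← Nat.factorization_le_iff_dvd Nat.card_pos.ne' (piPart_ne_zero hπ _)]
  intro s
  rw [piPart_factorization hπ]
  split_ifs with hs
  · exact ((Nat.factorization_le_iff_dvd Nat.card_pos.ne' Nat.card_pos.ne').2
      U.card_subgroup_dvd_card) s
  · refine (Nat.factorization_eq_zero_iff _ _).2 ?_ |>.le
    by_cases hsp : s.Prime
    · exact Or.inr (Or.inl fun h => hs (hU s hsp h))
    · exact Or.inl hsp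

theorem hall_coprime (hπ : ∀ r ∈ π, r.Prime) {H : Subgroup G}
    (hH : Nat.card H = piPart π (Nat.card G)) : (Nat.card H).Coprime H.index := by
  refine Nat.coprime_of_dvd fun s hs h1 h2 => ?_
  have hmem := mem_of_dvd_piPart hπ hs (hH ▸ h1)
  have h3 := congrArg (fun x => Nat.factorization x s) H.card_mul_index
  beta_reduce at h3
  rw [Nat.factorization_mul Nat.card_pos.ne' index_ne_zero_of_finite, Finsupp.add_apply,
    hH, piPart_factorization hπ, if_pos hmem] at h3
  have := hs.factorization_pos_of_dvd index_ne_zero_of_finite h2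
  omega

/-- Wielandt's theorem for a nilpotent subgroup of order the `π`-part. -/
theorem exists_conj_le (hπ : ∀ r ∈ π, r.Prime) {H : Subgroup G} [Group.IsNilpotent H]
    (hH : Nat.card H = piPart π (Nat.card G)) (U : Subgroup G)
    (hU : ∀ r : ℕ, r.Prime → r ∣ Nat.card U → r ∈ π) : ∃ x : G, U ≤ MulAut.conj x • H := by
  refine CfsgLib.Solvable.exists_conj_le_aux H (hall_coprime hπ hH) _ U le_rfl fun r hr hrU => ?_
  rw [hH]
  exact hrU.trans (dvd_piPart_of_subgroup hπ U hU)

theorem exists_conj_eq (hπ : ∀ r ∈ π, r.Prime) {H H' : Subgroup G} [Group.IsNilpotent H]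
    (hH : Nat.card H = piPart π (Nat.card G)) (hH' : Nat.card H' = piPart π (Nat.card G)) :
    ∃ x : G, H' = MulAut.conj x • H := by
  obtain ⟨x, hx⟩ := exists_conj_le hπ hH H' fun r hr hr' =>
    mem_of_dvd_piPart hπ hr (hH' ▸ hr')
  refine ⟨x, eq_of_le_of_card_ge hx ?_⟩
  rw [hH', ← hH]
  exact le_of_eq (Nat.card_congr (Subgroup.equivSMul (MulAut.conj x) H).toEquiv).symm

/-- The classes of `π`-elements meet a nilpotent Hall subgroup. -/
theorem card_piClasses_le_meet (hπ : ∀ r ∈ π, r.Prime) {H : Subgroup G} [Group.IsNilpotent H]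
    (hH : Nat.card H = piPart π (Nat.card G)) : Nat.card (piClasses π G) ≤ meet H := by
  have hsub : {c : ConjClasses G | ∀ x ∈ c.carrier, ∀ r : ℕ, r.Prime → r ∣ orderOf x → r ∈ π}
      ⊆ ConjClasses.mk '' (H : Set G) := by
    intro c hc
    obtain ⟨g, rfl⟩ := ConjClasses.exists_rep c
    obtain ⟨x, hx⟩ := exists_conj_le hπ hH (zpowers g) fun r hr hrU =>
      hc g ConjClasses.mem_carrier_mk r hr (Nat.card_zpowers g ▸ hrU)
    have h1 := hx (mem_zpowers g)
    rw [mem_pointwise_smul_iff_inv_smul_mem, ← map_inv, MulAut.smul_def, MulAut.conj_apply] at h1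
    exact ⟨_, h1, ConjClasses.mk_eq_mk_iff_isConj.2 (isConj_iff.2 ⟨x, by group⟩)⟩
  exact Nat.card_mono (Set.toFinite _) hsub

theorem meet_le_conjClasses (H : Subgroup G) : meet H ≤ Nat.card (ConjClasses H) := by
  have hsub : ConjClasses.mk '' (H : Set G) ⊆ Set.range (ConjClasses.map H.subtype) := by
    rintro _ ⟨x, hx, rfl⟩
    exact ⟨ConjClasses.mk ⟨x, hx⟩, rfl⟩
  refine (Set.ncard_le_ncard hsub (Set.toFinite _)).trans ?_
  rw [← Nat.card_coe_set_eq]
  exact Nat.card_le_card_of_surjective _ Set.rangeFactorization_surjective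

theorem meet_le_card (H : Subgroup G) : meet H ≤ Nat.card H := by
  refine (Set.ncard_image_le (Set.toFinite _)).trans ?_
  rw [← Nat.card_coe_set_eq]
  rfl

end PiPart

/-- An element normalising `K` whose order has no small divisors fuses the classes outside its
centralizer. -/
theorem mul_meet_le {G : Type u} [Group G] [Finite G] (K : Subgroup G) (l : G)
    (hl : ∀ x ∈ K, l * x * l⁻¹ ∈ K) (r : ℕ) (hr : ∀ d, d ∣ orderOf l → d ≠ 1 → r ≤ d) :
    r * meet K ≤ Nat.card K + (r - 1) * Nat.card ↥(K ⊓ centralizer ({l} : Set G)) := by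
  classical
  have := Fintype.ofFinite G
  have := Fintype.ofFinite (ConjClasses G)
  set S : Finset G := Finset.univ.filter (fun x => x ∈ K) with hS
  set S₁ : Finset G := S.filter (fun x => l * x = x * l) with hS₁
  set S₂ : Finset G := S.filter (fun x => ¬ l * x = x * l) with hS₂
  let f : G → ConjClasses G := ConjClasses.mk
  have hmeet : meet K ≤ (S₁.image f).card + (S₂.image f).card := by
    refine le_trans ?_ (Finset.card_union_le _ _)
    rw [← Finset.image_union, hS₁, hS₂, Finset.filter_union_filter_not_eq, ← Set.ncard_coe_finset,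
      Finset.coe_image]
    refine le_of_eq (congrArg Set.ncard ?_)
    simp [hS, f]
  have hpow : ∀ i : ℕ, ∀ x ∈ K, l ^ i * x * (l ^ i)⁻¹ ∈ K := by
    intro i
    induction i with
    | zero => intro x hx; simpa using hx
    | succ i ih =>
      intro x hx
      rw [show l ^ (i + 1) * x * (l ^ (i + 1))⁻¹ = l * (l ^ i * x * (l ^ i)⁻¹) * l⁻¹ by
        rw [pow_succ']; group]
      exact hl _ (ih x hx)
  have h2 : r * (S₂.image f).card ≤ S₂.card := by
    refine Finset.mul_card_image_le_card (f := f) S₂ r fun c hc => ?_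
    obtain ⟨x, hx, rfl⟩ := Finset.mem_image.mp hc
    obtain ⟨hxS, hxl⟩ := Finset.mem_filter.mp hx
    rw [← Finset.card_range r]
    refine Finset.card_le_card_of_injOn (fun i => l ^ i * x * (l ^ i)⁻¹) (fun i _ => ?_) ?_
    · refine Finset.mem_coe.2 (Finset.mem_filter.2 ⟨Finset.mem_filter.2 ⟨?_, ?_⟩, ?_⟩)
      · exact Finset.mem_filter.2 ⟨Finset.mem_univ _, hpow i x (Finset.mem_filter.mp hxS).2⟩
      · intro hcomm
        apply hxl
        have hc' : Commute l (l ^ i * x * (l ^ i)⁻¹) := hcomm
        have := ((Commute.refl l).pow_right i).inv_right.mul_right (hc'.mul_right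
          ((Commute.refl l).pow_right i))
        rwa [show (l ^ i)⁻¹ * (l ^ i * x * (l ^ i)⁻¹ * l ^ i) = x by group] at this
      · exact ConjClasses.mk_eq_mk_iff_isConj.2 (isConj_iff.2 ⟨(l ^ i)⁻¹, by group⟩)
    · have key : ∀ i j : ℕ, i < j → j < r →
          l ^ i * x * (l ^ i)⁻¹ = l ^ j * x * (l ^ j)⁻¹ → False := by
        intro i j hij hjr e
        obtain ⟨d, rfl⟩ : ∃ d, j = i + d := ⟨j - i, by omega⟩
        have e' : Commute (l ^ d) x := by
          rw [show l ^ (i + d) * x * (l ^ (i + d))⁻¹ = l ^ i * (l ^ d * x * (l ^ d)⁻¹) * (l ^ i)⁻¹ by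
            rw [pow_add]; group] at e
          have h3 := mul_left_cancel (mul_right_cancel e)
          show l ^ d * x = x * l ^ d
          calc l ^ d * x = l ^ d * x * (l ^ d)⁻¹ * l ^ d := by group
            _ = x * l ^ d := by rw [← h3]
        have hcop : d.Coprime (orderOf l) := by
          by_contra hg
          have h4 := hr (Nat.gcd d (orderOf l)) (Nat.gcd_dvd_right _ _) hg
          have h5 := Nat.gcd_le_left (orderOf l) (show 0 < d by omega)
          omega
        obtain ⟨m, hm⟩ := exists_pow_eq_self_of_coprime hcop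
        apply hxl
        have := e'.pow_left m
        rwa [hm] at this
      intro i hi j hj e
      rw [Finset.coe_range, Set.mem_Iio] at hi hj
      rcases lt_trichotomy i j with h | h | h
      · exact (key i j h hj e).elim
      · exact h
      · exact (key j i h hi e.symm).elim
  have hcard : S₁.card + S₂.card = Nat.card K := by
    rw [hS₁, hS₂, Finset.card_filter_add_card_filter_not, hS, Nat.card_eq_fintype_card,
      Fintype.card_subtype]
  have hC : S₁.card = Nat.card ↥(K ⊓ centralizer ({l} : Set G)) := by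
    rw [Nat.card_eq_fintype_card, Fintype.card_subtype]
    congr 1
    ext x
    simp [hS₁, hS, mem_centralizer_singleton_iff, eq_comm]
  rw [← hC]
  have h1 : (S₁.image f).card ≤ S₁.card := Finset.card_image_le
  calc r * meet K ≤ r * (S₁.card + (S₂.image f).card) :=
        Nat.mul_le_mul_left _ (hmeet.trans (Nat.add_le_add_right h1 _))
    _ ≤ r * S₁.card + S₂.card := by rw [mul_add]; exact Nat.add_le_add_left h2 _
    _ ≤ Nat.card K + (r - 1) * S₁.card := by
        rw [← hcard]
        rcases r with - | r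
        · simp
        · rw [Nat.add_sub_cancel, Nat.succ_mul]; omega

section Degree

open CfsgLib.Char Module

variable {G : Type u} [Group G] [Finite G]

theorem sq_mul_classes_le {p : ℕ} (hp : ∀ s : ℕ, s.Prime → s ∣ Nat.card G → p ≤ s) :
    p ^ 2 * Nat.card (ConjClasses G) ≤ Nat.card G + (p ^ 2 - 1) * (commutator G).index := by
  classical
  have := Fintype.ofFinite G
  have := Fintype.ofFinite (Cfsg.IrrCharacter G)
  choose d hd hd1 using fun χ : Cfsg.IrrCharacter G => irr_apply_one_pos χ.2
  have hsum : ∑ χ, d χ ^ 2 = Nat.card G := by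
    have h := sum_irr_sq (G := G)
    simp only [hd1] at h
    exact_mod_cast h
  have hdiv : ∀ χ, d χ ∣ Nat.card G := fun χ => by
    obtain ⟨m, ρ, hρ, hρe⟩ := χ.2
    have h2 := hd1 χ
    rw [← hρe, Representation.char_one] at h2
    have h3 : finrank ℂ (Fin m → ℂ) = d χ := by exact_mod_cast h2
    exact h3 ▸ degree_dvd_card ρ
  have hlin : ∀ χ : Cfsg.IrrCharacter G, (χ : G → ℂ) 1 = 1 ↔ d χ = 1 := fun χ => by
    rw [hd1 χ]; exact_mod_cast Iff.rfl
  have hL : (Finset.univ.filter fun χ => d χ = 1).card = (commutator G).index := by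
    rw [← natCard_linearIrr, Nat.card_eq_fintype_card, Fintype.card_subtype]
    congr 1
    ext χ
    simp [hlin]
  have hN : ∀ χ ∈ Finset.univ.filter (fun χ => ¬ d χ = 1), p ^ 2 ≤ d χ ^ 2 := by
    intro χ hχ
    have hne := (Finset.mem_filter.1 hχ).2
    exact Nat.pow_le_pow_left
      ((hp _ (Nat.minFac_prime hne) ((Nat.minFac_dvd _).trans (hdiv χ))).trans
        (Nat.minFac_le (hd χ))) 2
  have hk : Nat.card (ConjClasses G) =
      (Finset.univ.filter fun χ => d χ = 1).card + (Finset.univ.filter fun χ => ¬ d χ = 1).card := by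
    rw [← irr_card_eq, Nat.card_eq_fintype_card, Finset.card_filter_add_card_filter_not,
      Finset.card_univ]
  have hsplit := Finset.sum_filter_add_sum_filter_not Finset.univ (fun χ => d χ = 1)
    (fun χ => d χ ^ 2)
  rw [hsum] at hsplit
  have h1 : ∑ χ ∈ Finset.univ.filter (fun χ => d χ = 1), d χ ^ 2 = (commutator G).index := by
    rw [← hL, Finset.card_eq_sum_ones]
    exact Finset.sum_congr rfl fun χ hχ => by simp [(Finset.mem_filter.1 hχ).2]
  have h2 := Finset.card_nsmul_le_sum _ _ _ hN
  rw [smul_eq_mul] at h2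
  rw [hk, hL]
  rcases Nat.eq_zero_or_pos (p ^ 2) with h0 | h0
  · simp [h0]
  obtain ⟨e, he⟩ := Nat.exists_eq_add_of_le h0
  rw [he, Nat.add_sub_cancel_left]
  rw [he] at h2
  nlinarith [h1, h2, hsplit]

theorem commutator_card_le_of_many {p : ℕ} (hp2 : 2 ≤ p)
    (hp : ∀ s : ℕ, s.Prime → s ∣ Nat.card G → p ≤ s)
    (hk : Nat.card G < p * Nat.card (ConjClasses G)) : Nat.card (commutator G) ≤ p := by
  by_contra hc
  have h := sq_mul_classes_le (G := G) hp
  obtain ⟨e, he⟩ : ∃ e, p ^ 2 = e + 1 := ⟨p ^ 2 - 1, by have := Nat.one_le_pow 2 p (by omega); omega⟩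
  rw [he, Nat.add_sub_cancel] at h
  have hci := (commutator G).card_mul_index
  have hi : 0 < (commutator G).index := Nat.pos_of_ne_zero index_ne_zero_of_finite
  have h3 : p * (Nat.card (commutator G) * (commutator G).index + 1) ≤
      Nat.card (commutator G) * (commutator G).index + e * (commutator G).index := by
    calc p * (Nat.card (commutator G) * (commutator G).index + 1) ≤
          p * (p * Nat.card (ConjClasses G)) := Nat.mul_le_mul_left _ (by omega)
      _ = (e + 1) * Nat.card (ConjClasses G) := by rw [← mul_assoc, ← pow_two, he]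
      _ ≤ _ := by omega
  nlinarith [Nat.mul_le_mul_right (commutator G).index (show p + 1 ≤ Nat.card (commutator G) by omega)]

theorem cube_mul_classes_le_of_not_comm {p : ℕ}
    (hp : ∀ s : ℕ, s.Prime → s ∣ Nat.card G → p ≤ s) (hna : ¬ IsMulCommutative G) :
    p ^ 3 * Nat.card (ConjClasses G) ≤ Nat.card G * (p ^ 2 + p - 1) := by
  have hne : Nat.card (commutator G) ≠ 1 := by
    intro h1
    refine hna ⟨⟨fun a b => ?_⟩⟩
    have hm : ⁅a, b⁆ ∈ commutator G := by
      rw [_root_.commutator_def]; exact commutator_mem_commutator (mem_top a) (mem_top b)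
    rw [card_eq_one.1 h1, mem_bot] at hm
    exact commutatorElement_eq_one_iff_mul_comm.1 hm
  have hcp : p ≤ Nat.card (commutator G) :=
    (hp _ (Nat.minFac_prime hne)
      ((Nat.minFac_dvd _).trans (commutator G).card_subgroup_dvd_card)).trans
      (Nat.minFac_le Nat.card_pos)
  have h := sq_mul_classes_le (G := G) hp
  rcases Nat.eq_zero_or_pos p with h0 | h0
  · simp [h0]
  obtain ⟨e, he⟩ : ∃ e, p ^ 2 = e + 1 := ⟨p ^ 2 - 1, by have := Nat.one_le_pow 2 p h0; omega⟩
  have hci := (commutator G).card_mul_index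
  rw [show p ^ 2 + p - 1 = e + p by omega]
  rw [he, Nat.add_sub_cancel] at h
  calc p ^ 3 * Nat.card (ConjClasses G) = p * ((e + 1) * Nat.card (ConjClasses G)) := by
        rw [← he]; ring
    _ ≤ p * (Nat.card G + e * (commutator G).index) := Nat.mul_le_mul_left _ h
    _ = p * Nat.card G + e * (p * (commutator G).index) := by ring
    _ ≤ p * Nat.card G + e * (Nat.card (commutator G) * (commutator G).index) :=
        Nat.add_le_add_left (Nat.mul_le_mul_left _ (Nat.mul_le_mul_right _ hcp)) _
    _ = Nat.card G * (e + p) := by rw [hci]; ring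

end Degree

end CfsgLib.StructB.PiHall
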