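import Cfsg.Agent.Lib.StructB.PiHall.Basic
import Mathlib.GroupTheory.Perm.Cycle.Type

/-!
# Coprime action tools for counting `π`-classes
-/

set_option autoImplicit false

namespace CfsgLib.StructB.PiHall

open Subgroup CfsgLib.Coprime
open scoped Pointwise

universe u

variable {G : Type u} [Group G] [Finite G]

/-- Fixed points of a conjugation of prime power order. -/
theorem card_modEq_fixed {q : ℕ} [Fact q.Prime] {y : G} {a : ℕ} (hy : y ^ q ^ a = 1) (U : Subgroup G)
    (hU : ∀ x ∈ U, y * x * y⁻¹ ∈ U) :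
    Nat.card U ≡ Nat.card ↥(U ⊓ centralizer ({y} : Set G)) [MOD q] := by
  classical
  have := Fintype.ofFinite G
  have := Fintype.ofFinite U
  let f : U → U := fun x => ⟨y * x * y⁻¹, hU x x.2⟩
  have hf : Function.Injective f := fun x x' h => Subtype.ext (by
    have h' : y * (x : G) * y⁻¹ = y * (x' : G) * y⁻¹ := congrArg Subtype.val h
    exact mul_left_cancel (mul_right_cancel h'))
  let σ : Equiv.Perm U := Equiv.ofBijective f (Finite.injective_iff_bijective.1 hf)
  have hiter : ∀ (n : ℕ) (x : U), ((σ ^ n) x : G) = y ^ n * x * (y ^ n)⁻¹ := by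
    intro n
    induction n with
    | zero => intro x; simp
    | succ n ih =>
      intro x
      rw [pow_succ', Equiv.Perm.mul_apply]
      show y * ((σ ^ n) x : G) * y⁻¹ = _
      rw [ih, pow_succ']
      group
  have hσ : σ ^ q ^ a = 1 := Equiv.Perm.ext fun x => Subtype.ext (by rw [hiter, hy]; simp)
  have hmod := Equiv.Perm.card_compl_support_modEq (p := q) hσ
  have hfix : σ.supportᶜ.card = Nat.card ↥(U ⊓ centralizer ({y} : Set G)) := by
    rw [Nat.card_eq_fintype_card]
    refine Finset.card_bij' (fun x _ => ⟨(x : G), ?_⟩) (fun x _ => ⟨(x : G), x.2.1⟩) ?_ ?_ ?_ ?_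
    · rename_i x hx
      rw [Finset.mem_compl, Equiv.Perm.mem_support, not_not] at hx
      refine ⟨x.2, mem_centralizer_singleton_iff.2 ?_⟩
      have h' : y * (x : G) * y⁻¹ = x := congrArg Subtype.val hx
      calc (x : G) * y = y * x * y⁻¹ * y := by rw [h']
        _ = y * x := by group
    · intro x hx; exact Finset.mem_univ _
    · intro x _
      rw [Finset.mem_compl, Equiv.Perm.mem_support, not_not]
      refine Subtype.ext ?_
      show y * (x : G) * y⁻¹ = x
      rw [← mem_centralizer_singleton_iff.1 x.2.2]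
      group
    · intro x _; rfl
    · intro x _; rfl
  rw [hfix, ← Nat.card_eq_fintype_card] at hmod
  exact hmod.symm

omit [Finite G] in
theorem exists_fixed_of_not_dvd {q : ℕ} [Fact q.Prime] {a : ℕ}
    {α : Type*} [Finite α] (f : α → α) (hf : f^[q ^ a] = id) (hα : ¬ q ∣ Nat.card α) :
    ∃ x, f x = x := by
  classical
  have := Fintype.ofFinite α
  have hbij : Function.Bijective f := by
    have hpos : 0 < q ^ a := pow_pos (Fact.out : q.Prime).pos a
    obtain ⟨n, hn⟩ := Nat.exists_eq_succ_of_ne_zero hpos.ne'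
    refine Finite.injective_iff_bijective.1 fun x x' h => ?_
    have hx : ∀ z, f^[n] (f z) = z := fun z => by
      rw [← Function.iterate_succ_apply]
      exact (hn ▸ congrFun hf z)
    rw [← hx x, h, hx]
  let σ : Equiv.Perm α := Equiv.ofBijective f hbij
  have hσ : σ ^ q ^ a = 1 := Equiv.Perm.ext fun x => by
    rw [Equiv.Perm.coe_pow]
    exact congrFun hf x
  rw [Nat.card_eq_fintype_card] at hα
  exact Equiv.Perm.exists_fixed_point_of_prime hα hσ

omit [Finite G] in
/-- An element of a normal subgroup of `q`-power index. -/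
theorem le_of_coprime_index {K : Subgroup G} [K.Normal] {U : Subgroup G}
    (h : (Nat.card U).Coprime K.index) : U ≤ K := by
  intro x hx
  rw [← QuotientGroup.eq_one_iff, ← orderOf_eq_one_iff]
  refine Nat.eq_one_of_dvd_coprimes h ?_ ?_
  · exact (orderOf_map_dvd (QuotientGroup.mk' K) x).trans (Subgroup.orderOf_dvd_natCard U hx)
  · rw [index_eq_card]; exact orderOf_dvd_natCard _

variable {q : ℕ} [hq : Fact q.Prime]

/-- Invariant Sylow subgroups over a centralised `r`-subgroup. -/
theorem exists_invariant_sylow_ge {K : Subgroup G} [K.Normal] (hK : ¬ q ∣ Nat.card K)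
    {r : ℕ} [hr : Fact r.Prime] (hrK : ¬ r ∣ K.index) {y : G} {a : ℕ} (hy : y ^ q ^ a = 1)
    (T : Subgroup G) (hT : IsPGroup r T) (hTy : T ≤ centralizer ({y} : Set G)) :
    ∃ S : Subgroup G, Nat.card S = r ^ (Nat.card G).factorization r ∧ T ≤ S ∧ S ≤ K ∧
      MulAut.conj y • S = S := by
  classical
  have hTfix : MulAut.conj y • T = T := by
    refine eq_of_le_of_card_ge (fun x hx => ?_) ?_
    · rw [mem_pointwise_smul_iff_inv_smul_mem, ← map_inv, MulAut.smul_def, MulAut.conj_apply] at hx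
      have h := mem_centralizer_singleton_iff.1 (hTy hx)
      rw [show y⁻¹ * x * y⁻¹⁻¹ = y⁻¹ * x * y by group] at hx h
      rw [show y⁻¹ * x * y * y = y * (y⁻¹ * x * y) by rw [h]] at h
      convert hx using 1
      calc x = y * (y⁻¹ * x * y) * y⁻¹ := by group
        _ = y⁻¹ * x * y * y * y⁻¹ := by rw [mem_centralizer_singleton_iff.1 (hTy hx)]
        _ = y⁻¹ * x * y := by group
    · exact le_of_eq (Nat.card_congr (Subgroup.equivSMul (MulAut.conj y) T).toEquiv)
  let X : Set (Subgroup G) := {S | IsPGroup r S ∧ T ≤ S ∧ MulAut.conj y • S = S}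
  obtain ⟨S, ⟨hSr, hTS, hSfix⟩, hmax⟩ :=
    (Set.toFinite X).exists_maximalFor (fun S : Subgroup G => Nat.card S) X ⟨T, hT, le_rfl, hTfix⟩
  have hle_K : ∀ U : Subgroup G, IsPGroup r U → U ≤ K := fun U hU => by
    obtain ⟨n, hn⟩ := IsPGroup.iff_card.1 hU
    refine le_of_coprime_index ?_
    rw [hn]
    exact ((hr.out.coprime_iff_not_dvd).2 hrK).pow_left n
  refine ⟨S, ?_, hTS, hle_K S hSr, hSfix⟩
  obtain ⟨P, hP⟩ := hSr.exists_le_sylow
  rw [← P.card_eq_multiplicity]
  refine le_antisymm (card_le_of_le hP) ?_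
  by_contra hlt
  have hne : S < (P : Subgroup G) := lt_of_le_of_ne hP (fun e => hlt (by rw [e]))
  obtain ⟨x, hxP, hxN, hxS⟩ : ∃ x ∈ (P : Subgroup G), x ∈ normalizer (S : Set G) ∧ x ∉ S := by
    by_contra hcon
    push Not at hcon
    have hN := Group.normalizerCondition_of_isNilpotent (h := P.2.isNilpotent)
      (S.subgroupOf (P : Subgroup G)) (lt_top_iff_ne_top.2 fun e => hne.not_ge
        (subgroupOf_eq_top.1 e))
    obtain ⟨z, hzN, hzS⟩ := SetLike.exists_of_lt hN
    refine hzS (hcon z z.2 ?_)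
    rw [mem_normalizer_iff] at hzN ⊢
    intro g
    constructor
    · intro hg
      exact (hzN ⟨g, hP hg⟩).1 hg
    · intro hg
      have hgP : g ∈ (P : Subgroup G) := by
        have := (P : Subgroup G).mul_mem ((P : Subgroup G).mul_mem
          ((P : Subgroup G).inv_mem z.2) (hP hg)) z.2
        rwa [show ((z : G))⁻¹ * ((z : G) * g * (z : G)⁻¹) * z = g by group] at this
      exact (hzN ⟨g, hgP⟩).2 hg
  set N := normalizer (S : Set G) ⊓ K with hN
  have hSN : S ≤ N := le_inf le_normalizer (hle_K S hSr)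
  have hxN' : x ∈ N := ⟨hxN, hle_K _ P.2 hxP⟩
  have hNy : ∀ z ∈ N, y * z * y⁻¹ ∈ N := by
    rintro z ⟨hz1, hz2⟩
    refine mem_inf.2 ⟨?_, Subgroup.Normal.conj_mem inferInstance z hz2 y⟩
    have hyS : y ∈ normalizer (S : Set G) := by
      rw [mem_normalizer_iff]
      intro g
      conv_rhs => rw [← hSfix, mem_pointwise_smul_iff_inv_smul_mem]
      simp [MulAut.smul_def, mul_assoc]
    exact mul_mem (mul_mem hyS hz1) (inv_mem hyS)
  -- the Sylow `r`-subgroups of `N`
  let f : Sylow r N → Sylow r N := fun Q => Sylow.ofCard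
    (((MulAut.conj y) • ((Q : Subgroup N).map N.subtype)).subgroupOf N) (by
      have hle : (MulAut.conj y) • ((Q : Subgroup N).map N.subtype) ≤ N := by
        rintro _ ⟨z, hz, rfl⟩
        exact hNy z (map_subtype_le _ hz)
      rw [Nat.card_congr (subgroupOfEquivOfLe hle).toEquiv,
        ← Nat.card_congr (Subgroup.equivSMul _ _).toEquiv,
        card_map_of_injective N.subtype_injective, Q.card_eq_multiplicity])
  have hfval : ∀ Q : Sylow r N, ((f Q : Subgroup N)).map N.subtype =
      MulAut.conj y • ((Q : Subgroup N).map N.subtype) := by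
    intro Q
    show ((((MulAut.conj y) • ((Q : Subgroup N).map N.subtype))).subgroupOf N).map N.subtype = _
    rw [subgroupOf_map_subtype, inf_eq_left]
    rintro _ ⟨z, hz, rfl⟩
    exact hNy z (map_subtype_le _ hz)
  have hiter : ∀ (n : ℕ) (Q : Sylow r N), ((f^[n] Q : Sylow r N) : Subgroup N).map N.subtype =
      MulAut.conj (y ^ n) • ((Q : Subgroup N).map N.subtype) := by
    intro n
    induction n with
    | zero => intro Q; simp
    | succ n ih =>
      intro Q
      rw [Function.iterate_succ_apply', hfval, ih, smul_smul, ← map_mul, ← pow_succ']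
  have hfid : f^[q ^ a] = id := funext fun Q => Sylow.ext (map_injective N.subtype_injective (by
    rw [hiter, hy, map_one, one_smul]; rfl))
  have hnd : ¬ q ∣ Nat.card (Sylow r N) := by
    intro h
    rw [Sylow.card_eq_index_normalizer (default : Sylow r N)] at h
    exact hK ((h.trans (index_dvd_card _)).trans (card_dvd_of_le inf_le_right))
  obtain ⟨Q, hQ⟩ := exists_fixed_of_not_dvd f hfid hnd
  set U := (Q : Subgroup N).map N.subtype with hU
  have hUfix : MulAut.conj y • U = U := by rw [← hfval Q, hQ]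
  have hUr : IsPGroup r U := Q.2.map _
  have hSU : S ≤ U := by
    have : (S.subgroupOf N).Normal := (normal_subgroupOf_iff hSN).2 fun h k hh hk =>
      (mem_normalizer_iff.1 hk.1 h).1 hh
    have h1 : S.subgroupOf N ≤ (Q : Subgroup N) := by
      have hp : IsPGroup r (S.subgroupOf N) := hSr.of_equiv (subgroupOfEquivOfLe hSN).symm
      exact hp.le_sylow_of_normal Q
    intro z hz
    exact ⟨⟨z, hSN hz⟩, h1 hz, rfl⟩
  have hbig : Nat.card S < Nat.card U := by
    refine lt_of_le_of_ne (card_le_of_le hSU) fun e => ?_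
    have heq : S = U := eq_of_le_of_card_ge hSU e.ge
    have hSQ : (Q : Subgroup N) = S.subgroupOf N := by
      rw [heq, hU, subgroupOf, comap_map_eq_self_of_injective N.subtype_injective]
    have hz : IsPGroup r ↥(zpowers (⟨x, hxN'⟩ : N) ⊔ S.subgroupOf N) := by
      have : (S.subgroupOf N).Normal := (normal_subgroupOf_iff hSN).2 fun h k hh hk =>
        (mem_normalizer_iff.1 hk.1 h).1 hh
      refine IsPGroup.to_sup_of_normal_right ?_ (hSr.of_equiv (subgroupOfEquivOfLe hSN).symm)
      obtain ⟨k, hk⟩ := IsPGroup.iff_orderOf.1 P.2 ⟨x, hxP⟩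
      rw [Subgroup.orderOf_mk] at hk
      exact IsPGroup.of_card (n := k) (by rw [Nat.card_zpowers, Subgroup.orderOf_mk, hk])
    have h2 := Q.3 hz (hSQ ▸ le_sup_right)
    have h3 : (⟨x, hxN'⟩ : N) ∈ (Q : Subgroup N) := h2 ▸ mem_sup_left (mem_zpowers _)
    rw [hSQ] at h3
    exact hxS h3
  exact absurd (hmax ⟨hUr, hTS.trans hSU, hUfix⟩ hbig.le) hbig.not_ge


omit [Finite G] in
theorem conj_mem_of_fixed {S : Subgroup G} {y : G} (h : MulAut.conj y • S = S) :
    ∀ x ∈ S, y * x * y⁻¹ ∈ S := fun x hx =>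
  h.le (smul_mem_pointwise_smul x (MulAut.conj y) S hx)

/-- Invariant Sylow subgroups have equally large fixed subgroups. -/
theorem card_fixed_eq {K : Subgroup G} [K.Normal] (hK : ¬ q ∣ Nat.card K)
    {r : ℕ} [hr : Fact r.Prime] {y : G} {a : ℕ} (hy : y ^ q ^ a = 1)
    {S S' : Subgroup G} (hS : Nat.card S = r ^ (Nat.card G).factorization r)
    (hS' : Nat.card S' = r ^ (Nat.card G).factorization r) (hSK : S ≤ K) (hS'K : S' ≤ K)
    (hSf : MulAut.conj y • S = S) (hS'f : MulAut.conj y • S' = S') :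
    Nat.card ↥(S ⊓ centralizer ({y} : Set G)) = Nat.card ↥(S' ⊓ centralizer ({y} : Set G)) := by
  classical
  let α : Type u := {k : K // MulAut.conj (k : G) • S = S'}
  let P : Sylow r G := Sylow.ofCard S hS
  let P' : Sylow r G := Sylow.ofCard S' hS'
  obtain ⟨k₀, hk₀⟩ := MulAction.exists_smul_eq K (P.subtype hSK) (P'.subtype hS'K)
  have hk₀' : MulAut.conj (k₀ : G) • S = S' := by
    rw [Sylow.smul_subtype hSK] at hk₀
    exact congrArg (fun T : Sylow r G => (T : Subgroup G)) (Sylow.subtype_injective hk₀)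
  let e : α ≃ ↥(normalizer (S : Set G) ⊓ K) :=
    { toFun := fun k => ⟨(k₀ : G)⁻¹ * k.1, mem_inf.2
        ⟨mem_normalizer_iff.2 fun g => by
          have h : MulAut.conj ((k₀ : G)⁻¹ * k.1) • S = S := by
            rw [map_mul, mul_smul, k.2, ← hk₀', ← mul_smul, ← map_mul, inv_mul_cancel, map_one,
              one_smul]
          refine Iff.trans ?_ (SetLike.ext_iff.1 h _)
          rw [mem_pointwise_smul_iff_inv_smul_mem]
          simp [MulAut.smul_def, mul_assoc],
        mul_mem (inv_mem k₀.2) k.1.2⟩⟩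
      invFun := fun n => ⟨⟨(k₀ : G) * n, mul_mem k₀.2 n.2.2⟩, by
        show MulAut.conj ((k₀ : G) * n) • S = S'
        rw [map_mul, mul_smul, ← hk₀']
        congr 1
        ext g
        rw [mem_pointwise_smul_iff_inv_smul_mem, ← map_inv, MulAut.smul_def, MulAut.conj_apply]
        exact (mem_normalizer_iff.1 (inv_mem n.2.1) g).symm⟩
      left_inv := fun k => Subtype.ext (Subtype.ext (by simp))
      right_inv := fun n => Subtype.ext (by simp) }
  have hnd : ¬ q ∣ Nat.card α := fun h => hK (h.trans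
    ((Nat.card_congr e).dvd.trans (card_dvd_of_le inf_le_right)))
  let f : α → α := fun k => ⟨⟨y * k.1 * y⁻¹, Subgroup.Normal.conj_mem inferInstance _ k.1.2 y⟩, by
    show MulAut.conj (y * (k.1 : G) * y⁻¹) • S = S'
    have h1 : MulAut.conj y⁻¹ • S = S := by
      conv_lhs => rw [← hSf, ← mul_smul, ← map_mul, inv_mul_cancel, map_one, one_smul]
    rw [map_mul, map_mul, mul_smul, mul_smul, h1, k.2, hS'f]⟩
  have hiter : ∀ (n : ℕ) (k : α), ((f^[n] k).1 : G) = y ^ n * k.1 * (y ^ n)⁻¹ := by
    intro n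
    induction n with
    | zero => intro k; simp
    | succ n ih =>
      intro k
      rw [Function.iterate_succ_apply']
      show y * ((f^[n] k).1 : G) * y⁻¹ = _
      rw [ih, pow_succ']
      group
  have hfid : f^[q ^ a] = id :=
    funext fun k => Subtype.ext (Subtype.ext (by rw [hiter, hy]; simp))
  obtain ⟨c, hc⟩ := exists_fixed_of_not_dvd f hfid hnd
  have hcy : y * (c.1 : G) * y⁻¹ = c.1 := congrArg (fun k : α => ((k.1 : K) : G)) hc
  have hcC : (c.1 : G) ∈ centralizer ({y} : Set G) := mem_centralizer_singleton_iff.2 (by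
    calc (c.1 : G) * y = y * c.1 * y⁻¹ * y := by rw [hcy]
      _ = y * c.1 := by group)
  have hCfix : MulAut.conj (c.1 : G) • centralizer ({y} : Set G) = centralizer ({y} : Set G) := by
    ext g
    rw [mem_pointwise_smul_iff_inv_smul_mem, ← map_inv, MulAut.smul_def, MulAut.conj_apply]
    refine ⟨fun h => ?_, fun h => mul_mem (mul_mem (inv_mem hcC) h) (by rw [inv_inv]; exact hcC)⟩
    have := mul_mem (mul_mem hcC h) (inv_mem hcC)
    rwa [show (c.1 : G) * ((c.1 : G)⁻¹ * g * (c.1 : G)⁻¹⁻¹) * (c.1 : G)⁻¹ = g by group] at this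
  have := Nat.card_congr (Subgroup.equivSMul (MulAut.conj (c.1 : G))
    (S ⊓ centralizer ({y} : Set G))).toEquiv
  rwa [Subgroup.smul_inf, c.2, hCfix] at this

/-- A nilpotent `σ`-Hall subgroup invariant under `y` bounds the `σ`-part of the centralizer. -/
theorem piPart_centralizer_dvd {K : Subgroup G} [K.Normal] (hK : ¬ q ∣ Nat.card K)
    (hKi : ∀ r : ℕ, r.Prime → r ≠ q → ¬ r ∣ K.index) {σ : Finset ℕ} (hσ : ∀ r ∈ σ, r.Prime)
    (hqσ : q ∉ σ) {H : Subgroup G} [Group.IsNilpotent H]
    (hH : Nat.card H = piPart σ (Nat.card G)) {y : G} {a : ℕ} (hy : y ^ q ^ a = 1)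
    (hHf : MulAut.conj y • H = H) :
    piPart σ (Nat.card ↥(centralizer ({y} : Set G))) ∣
      Nat.card ↥(H ⊓ centralizer ({y} : Set G)) := by
  classical
  set C := centralizer ({y} : Set G) with hC
  rw [← Nat.factorization_le_iff_dvd (piPart_ne_zero hσ _) Nat.card_pos.ne']
  intro r
  rw [piPart_factorization hσ]
  split_ifs with hr
  swap
  · exact Nat.zero_le _
  have := Fact.mk (hσ r hr)
  have hrq : r ≠ q := fun e => hqσ (e ▸ hr)
  let T : Sylow r C := default
  obtain ⟨S, hScard, hTS, hSK, hSf⟩ := exists_invariant_sylow_ge hK (hKi r (hσ r hr) hrq) hy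
    ((T : Subgroup C).map C.subtype) (T.2.map _) (map_subtype_le _)
  obtain ⟨P, hP⟩ : ∃ P : Sylow r H, MulAut.conj y • ((P : Subgroup H).map H.subtype) =
      (P : Subgroup H).map H.subtype := by
    refine ⟨default, ?_⟩
    set P : Sylow r H := default
    set P₁ := MulAut.conj y • ((P : Subgroup H).map H.subtype) with hP₁
    have hle : P₁ ≤ H := hHf ▸ pointwise_smul_le_pointwise_smul_iff.2 (map_subtype_le _)
    have hc : Nat.card (P₁.subgroupOf H) = r ^ (Nat.card H).factorization r := by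
      rw [Nat.card_congr (subgroupOfEquivOfLe hle).toEquiv, hP₁,
        ← Nat.card_congr (Subgroup.equivSMul _ _).toEquiv,
        card_map_of_injective H.subtype_injective, P.card_eq_multiplicity]
    let _ := Sylow.unique_of_normal P
      (P.normal_of_normalizerCondition Group.normalizerCondition_of_isNilpotent)
    have he : Sylow.ofCard (P₁.subgroupOf H) hc = P := Subsingleton.elim _ _
    have he' : P₁.subgroupOf H = (P : Subgroup H) := congrArg (fun X : Sylow r H => (X : Subgroup H)) he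
    rw [← he', subgroupOf_map_subtype, inf_eq_left.2 hle]
  set S' := (P : Subgroup H).map H.subtype with hS'
  have hS'card : Nat.card S' = r ^ (Nat.card G).factorization r := by
    rw [hS', card_map_of_injective H.subtype_injective, P.card_eq_multiplicity, hH,
      piPart_factorization hσ, if_pos hr]
  have hS'K : S' ≤ K := by
    refine le_of_coprime_index ?_
    rw [hS'card]
    exact (((hσ r hr).coprime_iff_not_dvd).2 (hKi r (hσ r hr) hrq)).pow_left _
  have h1 : Nat.card ((T : Subgroup C).map C.subtype) ≤ Nat.card ↥(S' ⊓ C) := by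
    rw [← card_fixed_eq hK hy hScard hS'card hSK hS'K hSf hP]
    exact card_le_of_le (le_inf hTS (map_subtype_le _))
  rw [card_map_of_injective C.subtype_injective, T.card_eq_multiplicity] at h1
  have hS'p : IsPGroup r ↥(S' ⊓ C) := (P.2.map _).to_le inf_le_left
  obtain ⟨n, hn⟩ := IsPGroup.iff_card.1 hS'p
  rw [hn] at h1
  refine le_trans ((Nat.pow_le_pow_iff_right (hσ r hr).one_lt).1 h1) ?_
  refine ((hσ r hr).pow_dvd_iff_le_factorization Nat.card_pos.ne').1 ?_
  rw [← hn]
  exact card_dvd_of_le (inf_le_inf_right _ (map_subtype_le _))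


omit [Finite G] hq in
theorem exists_pow_eq_one_of_isPGroup {U : Subgroup G} (hU : IsPGroup q U) {y : G} (hy : y ∈ U) :
    ∃ a : ℕ, y ^ q ^ a = 1 := by
  obtain ⟨a, ha⟩ := hU ⟨y, hy⟩
  exact ⟨a, by simpa using congrArg Subtype.val ha⟩

/-- The index of the fixed subgroup of a coprime action is `1` modulo `q`. -/
theorem exists_index_modEq {y : G} {a : ℕ} (hy : y ^ q ^ a = 1) (U : Subgroup G)
    (hU : ∀ x ∈ U, y * x * y⁻¹ ∈ U) (hqU : ¬ q ∣ Nat.card U)
    (hne : ¬ U ≤ centralizer ({y} : Set G)) :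
    ∃ i, 2 ≤ i ∧ i ≡ 1 [MOD q] ∧
      Nat.card U = i * Nat.card ↥(U ⊓ centralizer ({y} : Set G)) := by
  obtain ⟨i, hi⟩ := card_dvd_of_le (inf_le_left : U ⊓ centralizer ({y} : Set G) ≤ U)
  have hmod := card_modEq_fixed hy U hU
  have hcop : q.Coprime (Nat.card ↥(U ⊓ centralizer ({y} : Set G))) :=
    hq.out.coprime_iff_not_dvd.2 fun h => hqU (h.trans (card_dvd_of_le inf_le_left))
  refine ⟨i, ?_, ?_, by rw [hi, mul_comm]⟩
  · rcases Nat.lt_or_ge i 2 with h | h
    · interval_cases i
      · exact absurd hi (by simpa using (Nat.card_pos (α := U)).ne')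
      · rw [mul_one] at hi
        exact absurd (inf_eq_left.1 (eq_of_le_of_card_ge inf_le_left hi.le)) hne
    · exact h
  · rw [hi] at hmod
    exact Nat.ModEq.cancel_left_of_coprime hcop.gcd_eq_one (by rwa [mul_one])

/-- If all primes of `|U|` lie in `[p, q)` then the fixed subgroup has index at least `p ^ 2`. -/
theorem sq_mul_fixed_le {y : G} {a : ℕ} (hy : y ^ q ^ a = 1) (U : Subgroup G)
    (hU : ∀ x ∈ U, y * x * y⁻¹ ∈ U) {p : ℕ}
    (hs : ∀ s : ℕ, s.Prime → s ∣ Nat.card U → p ≤ s ∧ s < q)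
    (hne : ¬ U ≤ centralizer ({y} : Set G)) :
    p ^ 2 * Nat.card ↥(U ⊓ centralizer ({y} : Set G)) ≤ Nat.card U := by
  have hqU : ¬ q ∣ Nat.card U := fun h => lt_irrefl q (hs q hq.out h).2
  obtain ⟨i, hi2, himod, hi⟩ := exists_index_modEq hy U hU hqU hne
  rw [hi]
  refine Nat.mul_le_mul_right _ ?_
  have hiU : i ∣ Nat.card U := ⟨_, hi⟩
  have hi1 : i ≠ 1 := by omega
  obtain ⟨t, ht⟩ := Nat.minFac_dvd i
  have hsp := Nat.minFac_prime hi1
  have ht1 : t ≠ 1 := by
    rintro rfl
    rw [mul_one] at ht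
    have h1 := (hs i.minFac hsp ((Nat.minFac_dvd i).trans hiU)).2
    rw [← ht] at h1
    have h2 : i % q = 1 % q := himod
    rw [Nat.mod_eq_of_lt h1, Nat.mod_eq_of_lt hq.out.one_lt] at h2
    exact hi1 h2
  have ht0 : 0 < t := Nat.pos_of_ne_zero fun e => by rw [e, mul_zero] at ht; omega
  have htU : t ∣ Nat.card U := (ht ▸ dvd_mul_left t _).trans hiU
  rw [pow_two, ht]
  exact Nat.mul_le_mul (hs _ hsp ((Nat.minFac_dvd i).trans hiU)).1
    ((hs _ (Nat.minFac_prime ht1) ((Nat.minFac_dvd t).trans htU)).1.trans (Nat.minFac_le ht0))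

omit hq in
/-- A proper subgroup is smaller at least by the least prime. -/
theorem mul_card_le_of_not_le {U V : Subgroup G} (hUV : U ≤ V) (hne : ¬ V ≤ U) {p : ℕ}
    (hp : ∀ s : ℕ, s.Prime → s ∣ Nat.card V → p ≤ s) : p * Nat.card U ≤ Nat.card V := by
  obtain ⟨t, ht⟩ := card_dvd_of_le hUV
  have ht1 : t ≠ 1 := by
    rintro rfl
    rw [mul_one] at ht
    exact hne (eq_of_le_of_card_ge hUV ht.le).ge
  have ht0 : 0 < t := Nat.pos_of_ne_zero fun e => by
    rw [e, mul_zero] at ht; exact Nat.card_pos.ne' ht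
  rw [ht, mul_comm p]
  exact Nat.mul_le_mul_left _ ((hp _ (Nat.minFac_prime ht1)
    (by rw [ht]; exact (Nat.minFac_dvd t).mul_left _)).trans (Nat.minFac_le ht0))

end CfsgLib.StructB.PiHall
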