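import Cfsg.Agent.Lib.StructB.PiHall.Invariant
import Cfsg.Agent.Lib.Transfer.HallComplement
import Mathlib.GroupTheory.NoncommCoprod

/-!
# Many classes of `π`-elements give a nilpotent Hall `π`-subgroup
-/

set_option autoImplicit false

namespace CfsgLib.StructB.PiHall

open Subgroup CfsgLib.Coprime
open scoped Pointwise

universe u

variable {G : Type u} [Group G] [Finite G]

omit [Finite G] in
theorem conj_smul_mem {H : Subgroup G} {g x : G} : x ∈ MulAut.conj g • H ↔ g⁻¹ * x * g ∈ H := by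
  rw [mem_pointwise_smul_iff_inv_smul_mem, ← map_inv, MulAut.smul_def, MulAut.conj_apply, inv_inv]

/-- Splitting off the `q`-part of `π`-elements. -/
theorem card_piClasses_le_sum {π : Finset ℕ} {r : ℕ} (hr : r.Prime) [Fintype (pClasses r G)]
    (rep : pClasses r G → G) (hrep : ∀ c, ConjClasses.mk (rep c) = c.1) :
    Nat.card (piClasses π G) ≤
      ∑ c : pClasses r G, Nat.card (piClasses (π.erase r) ↥(centralizer ({rep c} : Set G))) := by
  classical
  let C : pClasses r G → Subgroup G := fun c => centralizer ({rep c} : Set G)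
  choose repH hrepH using fun (H : Subgroup G) (c : ConjClasses H) => ConjClasses.exists_rep c
  let F : (Σ c : pClasses r G, piClasses (π.erase r) (C c)) → ConjClasses G :=
    fun q => ConjClasses.mk (rep q.1 * (repH (C q.1) q.2.1 : G))
  have hsub : {c : ConjClasses G | ∀ x ∈ c.carrier, ∀ r : ℕ, r.Prime → r ∣ orderOf x → r ∈ π}
      ⊆ Set.range F := by
    intro c hc
    obtain ⟨x, rfl⟩ := ConjClasses.exists_rep c
    obtain ⟨u, v, huv, hcomm, ⟨k, hk⟩, hv⟩ :=
      exists_split r hr x (hc x ConjClasses.mem_carrier_mk)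
    have hconj : ∀ y ∈ (ConjClasses.mk u).carrier, ∃ j, orderOf y = r ^ j := by
      intro y hy
      rw [ConjClasses.mem_carrier_iff_mk_eq, ConjClasses.mk_eq_mk_iff_isConj, isConj_iff] at hy
      obtain ⟨t, ht⟩ := hy
      refine ⟨k, ?_⟩
      rw [← hk, ← ht]
      exact (MulEquiv.orderOf_eq (MulAut.conj t) y).symm
    let cu : pClasses r G := ⟨ConjClasses.mk u, hconj⟩
    obtain ⟨t, ht⟩ := isConj_iff.mp (ConjClasses.mk_eq_mk_iff_isConj.mp (hrep cu).symm)
    have hw : t * v * t⁻¹ ∈ C cu := by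
      refine mem_centralizer_singleton_iff.mpr ?_
      rw [← ht]
      calc t * v * t⁻¹ * (t * u * t⁻¹) = t * (v * u) * t⁻¹ := by group
        _ = t * (u * v) * t⁻¹ := by rw [hcomm.eq]
        _ = t * u * t⁻¹ * (t * v * t⁻¹) := by group
    have hd : ∀ z ∈ (ConjClasses.mk (⟨_, hw⟩ : C cu)).carrier,
        ∀ s : ℕ, s.Prime → s ∣ orderOf z → s ∈ π.erase r := by
      intro z hz s hs hsd
      rw [ConjClasses.mem_carrier_iff_mk_eq, ConjClasses.mk_eq_mk_iff_isConj, isConj_iff] at hz
      obtain ⟨a, ha⟩ := hz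
      apply hv s hs
      have h1 : orderOf (a * z * a⁻¹) = orderOf z := MulEquiv.orderOf_eq (MulAut.conj a) z
      rw [ha, ← Subgroup.orderOf_coe] at h1
      have h2 : orderOf (t * v * t⁻¹) = orderOf v := MulEquiv.orderOf_eq (MulAut.conj t) v
      rw [← h2]
      exact hsd.trans (dvd_of_eq h1.symm)
    refine ⟨⟨cu, ConjClasses.mk ⟨_, hw⟩, hd⟩, ?_⟩
    obtain ⟨b, hb⟩ := isConj_iff.mp (ConjClasses.mk_eq_mk_iff_isConj.mp
      (hrepH (C cu) (ConjClasses.mk ⟨_, hw⟩)).symm)
    refine (ConjClasses.mk_eq_mk_iff_isConj.mpr (isConj_iff.mpr ⟨(b : G) * t, ?_⟩)).symm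
    show (b : G) * t * x * ((b : G) * t)⁻¹ = _
    have hb' : (b : G) * (t * v * t⁻¹) * (b : G)⁻¹ = (repH (C cu) (ConjClasses.mk ⟨_, hw⟩) : G) :=
      congrArg Subtype.val hb
    have hbc : (b : G) * rep cu * (b : G)⁻¹ = rep cu := by
      rw [mem_centralizer_singleton_iff.mp b.2, mul_inv_cancel_right]
    show _ = rep cu * (repH (C cu) (ConjClasses.mk ⟨_, hw⟩) : G)
    calc (b : G) * t * x * ((b : G) * t)⁻¹
        = ((b : G) * (t * u * t⁻¹) * (b : G)⁻¹) * ((b : G) * (t * v * t⁻¹) * (b : G)⁻¹) := by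
          rw [← huv]; group
      _ = _ := by rw [ht, hb', hbc]
  calc Nat.card (piClasses π G)
      ≤ Nat.card (Set.range F) := Nat.card_mono (Set.toFinite _) hsub
    _ ≤ Nat.card (Σ c : pClasses r G, piClasses (π.erase r) (C c)) :=
        Nat.card_le_card_of_surjective (Set.rangeFactorization F) Set.rangeFactorization_surjective
    _ = _ := Nat.card_sigma

omit [Finite G] in
/-- A nilpotent product of commuting subgroups. -/
theorem nilpotent_sup_card {H R : Subgroup G} [Group.IsNilpotent H] (hR : Group.IsNilpotent R)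
    (hc : R ≤ centralizer (H : Set G)) (hcop : (Nat.card H).Coprime (Nat.card R)) :
    Group.IsNilpotent ↥(H ⊔ R) ∧ Nat.card ↥(H ⊔ R) = Nat.card H * Nat.card R := by
  have comm : ∀ (x : H) (y : R), Commute (H.subtype x) (R.subtype y) := fun x y =>
    mem_centralizer_iff.1 (hc y.2) x x.2
  let φ : H × R →* G := H.subtype.noncommCoprod R.subtype comm
  have hrange : φ.range = H ⊔ R := by
    rw [MonoidHom.noncommCoprod_range, range_subtype, range_subtype]
  rw [← hrange]
  refine ⟨Group.nilpotent_of_surjective φ.rangeRestrict φ.rangeRestrict_surjective, ?_⟩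
  refine Nat.dvd_antisymm ?_ (hcop.mul_dvd_of_dvd_of_dvd ?_ ?_)
  · rw [← Nat.card_prod]; exact card_range_dvd φ
  · exact card_dvd_of_le (hrange ▸ le_sup_left)
  · exact card_dvd_of_le (hrange ▸ le_sup_right)

theorem exists_prime_power_not_mem {U V : Subgroup G} (h : ¬ U ≤ V) :
    ∃ r : ℕ, r.Prime ∧ r ∣ Nat.card U ∧ ∃ w ∈ U, (∃ k, orderOf w = r ^ k) ∧ w ∉ V := by
  by_contra hcon
  push Not at hcon
  refine h (inf_eq_right.1 (eq_of_le_of_card_ge inf_le_right ?_) : U ≤ V)
  refine Nat.le_of_dvd Nat.card_pos ?_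
  rw [← Nat.factorization_le_iff_dvd Nat.card_pos.ne' Nat.card_pos.ne']
  intro r
  by_cases hr : r.Prime
  swap
  · simp [Nat.factorization_eq_zero_of_not_prime _ hr]
  by_cases hrU : r ∣ Nat.card U
  swap
  · simp [Nat.factorization_eq_zero_of_not_dvd hrU]
  have := Fact.mk hr
  let T : Sylow r U := default
  have hle : (T : Subgroup U).map U.subtype ≤ V ⊓ U := by
    rintro _ ⟨x, hx, rfl⟩
    refine ⟨?_, x.2⟩
    obtain ⟨k, hk⟩ := IsPGroup.iff_orderOf.1 T.2 ⟨x, hx⟩
    rw [Subgroup.orderOf_mk, ← Subgroup.orderOf_coe] at hk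
    exact hcon r hr hrU x x.2 ⟨k, hk⟩
  have h1 := card_dvd_of_le hle
  rw [card_map_of_injective U.subtype_injective, T.card_eq_multiplicity] at h1
  exact (hr.pow_dvd_iff_le_factorization Nat.card_pos.ne').1 h1

theorem final_arith {m R Q C p r q : ℕ} (hQr : (r + 1) * m ≤ Q + r * C) (hC : q ^ 2 * C ≤ Q)
    (hR : q * R ≤ Q) (hpr : p ≤ r) (hrq : r + 1 < q) : m + R * p ≤ Q := by
  have h5 : r + (r + 1) * q * r ≤ r * q ^ 2 := by
    have h : 1 + (r + 1) * q ≤ q ^ 2 := by nlinarith
    calc r + (r + 1) * q * r = r * (1 + (r + 1) * q) := by ring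
      _ ≤ r * q ^ 2 := Nat.mul_le_mul_left _ h
  have hq : 0 < q := by omega
  refine le_of_mul_le_mul_left ?_ (show 0 < (r + 1) * q ^ 2 by positivity)
  calc (r + 1) * q ^ 2 * (m + R * p) = q ^ 2 * ((r + 1) * m) + (r + 1) * q * p * (q * R) := by ring
    _ ≤ q ^ 2 * (Q + r * C) + (r + 1) * q * r * Q :=
        Nat.add_le_add (Nat.mul_le_mul_left _ hQr) (Nat.mul_le_mul (Nat.mul_le_mul_left _ hpr) hR)
    _ = q ^ 2 * Q + r * (q ^ 2 * C) + (r + 1) * q * r * Q := by ring
    _ ≤ q ^ 2 * Q + r * Q + (r + 1) * q * r * Q := by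
        have := Nat.mul_le_mul_left r hC
        omega
    _ = (q ^ 2 + (r + (r + 1) * q * r)) * Q := by ring
    _ ≤ (q ^ 2 + r * q ^ 2) * Q := Nat.mul_le_mul_right _ (Nat.add_le_add_left h5 _)
    _ = _ := by ring

set_option maxHeartbeats 1000000 in
-- A long case analysis in a single proof.
/-- The inductive step. -/
theorem step {π : Finset ℕ} (hπ : ∀ r ∈ π, r.Prime) {p : ℕ} (hp2 : 2 ≤ p) (hp : ∀ r ∈ π, p ≤ r)
    {q : ℕ} (hqπ : q ∈ π) (hqmax : ∀ r ∈ π, r ≤ q)
    (IH : ∀ H : Subgroup G, piPart (π.erase q) (Nat.card H) < p * Nat.card (piClasses (π.erase q) H) →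
      ∃ L : Subgroup H, Group.IsNilpotent L ∧ Nat.card L = piPart (π.erase q) (Nat.card H))
    (hk : piPart π (Nat.card G) < p * Nat.card (piClasses π G)) :
    ∃ H : Subgroup G, Group.IsNilpotent H ∧ Nat.card H = piPart π (Nat.card G) := by
  classical
  have hqp : q.Prime := hπ q hqπ
  have := Fact.mk hqp
  set σ := π.erase q with hσdef
  have hσ : ∀ r ∈ σ, r.Prime := fun r hr => hπ r (Finset.mem_of_mem_erase hr)
  have hpσ : ∀ r ∈ σ, p ≤ r := fun r hr => hp r (Finset.mem_of_mem_erase hr)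
  have hqσ : q ∉ σ := Finset.notMem_erase q π
  have hσlt : ∀ r ∈ σ, r < q := fun r hr =>
    lt_of_le_of_ne (hqmax r (Finset.mem_of_mem_erase hr)) (Finset.ne_of_mem_erase hr)
  set m' := piPart σ (Nat.card G) with hm'
  have hm'pos : 0 < m' := Nat.pos_of_ne_zero (piPart_ne_zero hσ _)
  obtain ⟨Q⟩ : Nonempty (Sylow q G) := inferInstance
  set Q₀ : Subgroup G := (Q : Subgroup G) with hQ₀
  have hQcard : Nat.card Q₀ = q ^ (Nat.card G).factorization q := Q.card_eq_multiplicity
  have hm : piPart π (Nat.card G) = Nat.card Q₀ * m' := by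
    rw [hQcard, hm', hσdef]
    exact (Finset.mul_prod_erase π (fun r => r ^ (Nat.card G).factorization r) hqπ).symm
  rw [hm] at hk ⊢
  have := Fintype.ofFinite (pClasses q G)
  choose f hf using exists_sylow_rep Q
  have hfinj : Function.Injective f := fun c d e => Subtype.ext (by rw [← hf c, ← hf d, e])
  set y : pClasses q G → G := fun c => (f c : G) with hydef
  set k : pClasses q G → ℕ := fun c => Nat.card (piClasses σ ↥(centralizer ({y c} : Set G)))
    with hkdef
  have hsum : Nat.card (piClasses π G) ≤ ∑ c, k c := card_piClasses_le_sum hqp y hf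
  have hkc : Fintype.card (pClasses q G) ≤ meet Q₀ := by
    rw [← Nat.card_eq_fintype_card, meet, ← Nat.card_coe_set_eq]
    exact Nat.card_le_card_of_injective (fun c => ⟨c.1, _, (f c).2, hf c⟩)
      fun c d e => Subtype.ext (congrArg Subtype.val e :)
  have hkc' : Fintype.card (pClasses q G) ≤ Nat.card Q₀ := hkc.trans (meet_le_card _)
  have hklem : ∀ c, k c ≤ piPart σ (Nat.card ↥(centralizer ({y c} : Set G))) := fun c =>
    card_piClasses_le σ hσ _
  have hdvd : ∀ c, piPart σ (Nat.card ↥(centralizer ({y c} : Set G))) ∣ m' := fun c =>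
    piPart_dvd_piPart hσ (card_subgroup_dvd_card _) Nat.card_pos.ne'
  have hkm : ∀ c, k c ≤ m' := fun c => (hklem c).trans (Nat.le_of_dvd hm'pos (hdvd c))
  -- the classes with many centralizer classes
  have hfull : ∀ c, m' < p * k c → ∃ L : Subgroup G, Group.IsNilpotent L ∧ Nat.card L = m' ∧
      L ≤ centralizer ({y c} : Set G) ∧
      piPart σ (Nat.card ↥(centralizer ({y c} : Set G))) = m' := by
    intro c hc
    have heq : piPart σ (Nat.card ↥(centralizer ({y c} : Set G))) = m' := by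
      rcases eq_or_mul_le hσ hpσ (hdvd c) with h | h
      · exact h
      · exact absurd ((Nat.mul_le_mul_left p (hklem c)).trans h) (not_le.2 hc)
    obtain ⟨L, hL, hLc⟩ := IH _ (by rw [heq]; exact hc)
    refine ⟨L.map (centralizer ({y c} : Set G)).subtype,
      (Group.isNilpotent_congr (L.equivMapOfInjective _ (subtype_injective _))).1 hL, ?_,
      map_subtype_le _, heq⟩
    rw [card_map_of_injective (subtype_injective _), hLc, heq]
  have hbad : ∃ c, m' < p * k c := by
    by_contra hcon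
    push Not at hcon
    refine absurd hk (not_lt.2 ?_)
    calc p * Nat.card (piClasses π G) ≤ p * ∑ c, k c := Nat.mul_le_mul_left _ hsum
      _ = ∑ c, p * k c := Finset.mul_sum _ _ _
      _ ≤ ∑ _c : pClasses q G, m' := Finset.sum_le_sum fun c _ => hcon c
      _ = Fintype.card (pClasses q G) * m' := by simp
      _ ≤ _ := Nat.mul_le_mul_right _ hkc'
  obtain ⟨c₀, hc₀⟩ := hbad
  obtain ⟨H₀, hH₀n, hH₀c, -, -⟩ := hfull c₀ hc₀
  have := hH₀n
  set C₀ := centralizer (H₀ : Set G) with hC₀
  obtain ⟨RC⟩ : Nonempty (Sylow q C₀) := inferInstance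
  set R₀ : Subgroup G := (RC : Subgroup C₀).map C₀.subtype with hR₀
  have hR₀p : IsPGroup q R₀ := RC.2.map _
  have hR₀c : R₀ ≤ C₀ := map_subtype_le _
  have hR₀card : Nat.card R₀ = q ^ (Nat.card C₀).factorization q := by
    rw [hR₀, card_map_of_injective C₀.subtype_injective, RC.card_eq_multiplicity]
  have hconjR : ∀ z ∈ C₀, (∃ b, orderOf z = q ^ b) → ∃ t : G, t * z * t⁻¹ ∈ R₀ := by
    rintro z hz ⟨b, hb⟩
    obtain ⟨T, hT⟩ := (IsPGroup.of_card (n := b) (by rw [Nat.card_zpowers, Subgroup.orderOf_mk, hb]) :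
      IsPGroup q (zpowers (⟨z, hz⟩ : C₀))).exists_le_sylow
    obtain ⟨t, ht⟩ := MulAction.exists_smul_eq C₀ T RC
    refine ⟨t, ⟨t * ⟨z, hz⟩ * t⁻¹, ?_, rfl⟩⟩
    rw [← ht]
    exact ⟨⟨z, hz⟩, hT (mem_zpowers _), rfl⟩
  have hqG : ∀ z : G, z ∈ H₀ → (orderOf z).Coprime q := fun z hz => by
    refine (hqp.coprime_iff_not_dvd.2 fun h => hqσ ?_).symm
    exact mem_of_dvd_piPart hσ hqp (hH₀c ▸ h.trans (Subgroup.orderOf_dvd_natCard H₀ hz))
  rcases eq_or_ne (Nat.card R₀) (Nat.card Q₀) with hRQ | hRQ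
  · have hcop : (Nat.card H₀).Coprime (Nat.card R₀) := by
      rw [hRQ, hQcard, hH₀c]
      exact (hqp.coprime_iff_not_dvd.2 fun h => hqσ (mem_of_dvd_piPart hσ hqp h)).symm.pow_right _
    obtain ⟨h1, h2⟩ := nilpotent_sup_card hR₀p.isNilpotent hR₀c hcop
    exact ⟨H₀ ⊔ R₀, h1, by rw [h2, hRQ, hH₀c, mul_comm]⟩
  exfalso
  have hR₀le : q * Nat.card R₀ ≤ Nat.card Q₀ := by
    have hd : Nat.card R₀ ∣ Nat.card Q₀ := by
      rw [hR₀card, hQcard]
      exact pow_dvd_pow q (((Nat.factorization_le_iff_dvd Nat.card_pos.ne' Nat.card_pos.ne').2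
        (card_subgroup_dvd_card C₀)) q)
    rw [hR₀card, hQcard] at hd hRQ ⊢
    rw [← pow_succ']
    have hle := (Nat.pow_dvd_pow_iff_le_right hqp.one_lt).1 hd
    exact Nat.pow_le_pow_right hqp.pos (Nat.lt_of_le_of_ne hle fun e => hRQ (by rw [e]))
  have hpq : p < q := by
    by_contra hle
    push Not at hle
    have hσe : σ = ∅ := Finset.eq_empty_of_forall_notMem fun r hr => by
      have := hσlt r hr; have := hpσ r hr; omega
    have hbot : H₀ = ⊥ := card_eq_one.1 (by rw [hH₀c, hm', hσe]; simp [piPart])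
    apply hRQ
    rw [hR₀card, hQcard]
    congr 2
    rw [hC₀, hbot, coe_bot, centralizer_eq_top_iff_subset.2 (by simp), card_top]
  have hq1 : 2 ≤ q := hqp.two_le
  -- conjugates of full representatives lie in `R₀`
  have hinR : ∀ c, m' < p * k c → ∃ g : G, g * y c * g⁻¹ ∈ R₀ := by
    intro c hc
    obtain ⟨L, hLn, hLc, hLy, -⟩ := hfull c hc
    obtain ⟨x, hx⟩ := exists_conj_eq hσ hH₀c hLc
    have hz : x⁻¹ * y c * x ∈ C₀ := by
      refine mem_centralizer_iff.2 fun h hh => ?_
      have hm : x * h * x⁻¹ ∈ L := by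
        rw [hx, conj_smul_mem]
        convert (show h ∈ H₀ from hh) using 1
        group
      have h2 := mem_centralizer_singleton_iff.1 (hLy hm)
      calc h * (x⁻¹ * y c * x) = x⁻¹ * ((x * h * x⁻¹) * y c) * x := by group
        _ = x⁻¹ * (y c * (x * h * x⁻¹)) * x := by rw [h2]
        _ = x⁻¹ * y c * x * h := by group
    obtain ⟨b, hb⟩ : ∃ b, orderOf (x⁻¹ * y c * x) = q ^ b := by
      obtain ⟨b, hb⟩ := c.2 (y c) (ConjClasses.mem_carrier_iff_mk_eq.2 (hf c))
      refine ⟨b, ?_⟩
      rw [← hb, show x⁻¹ * y c * x = MulAut.conj x⁻¹ (y c) by simp]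
      exact MulEquiv.orderOf_eq _ _
    obtain ⟨t, ht⟩ := hconjR _ hz ⟨b, hb⟩
    exact ⟨t * x⁻¹, by convert ht using 1; group⟩
  have hbound : ∀ E, (∀ c, m' < p * k c → 2 * (p * k c) ≤ 2 * m' + E) →
      2 * (p * Nat.card (piClasses π G)) ≤ meet Q₀ * (2 * m') + meet R₀ * E := by
    intro E hE
    have hF : (Finset.univ.filter fun c => m' < p * k c).card ≤ meet R₀ := by
      rw [← Fintype.card_subtype, ← Nat.card_eq_fintype_card, meet, ← Nat.card_coe_set_eq]
      refine Nat.card_le_card_of_injective (fun c : {c // m' < p * k c} => ⟨c.1.1, ?_⟩)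
        fun c d h => Subtype.ext (Subtype.ext (congrArg Subtype.val h :))
      obtain ⟨g, hg⟩ := hinR c.1 c.2
      exact ⟨_, hg, (ConjClasses.mk_eq_mk_iff_isConj.2 (isConj_iff.2
        ⟨g⁻¹, by simp only [hydef]; group⟩)).trans (hf c.1)⟩
    calc 2 * (p * Nat.card (piClasses π G)) ≤ 2 * (p * ∑ c, k c) :=
          Nat.mul_le_mul_left _ (Nat.mul_le_mul_left _ hsum)
      _ = ∑ c, 2 * (p * k c) := by rw [Finset.mul_sum, Finset.mul_sum]
      _ ≤ ∑ c, (2 * m' + if m' < p * k c then E else 0) := Finset.sum_le_sum fun c _ => by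
          split_ifs with h
          · exact hE c h
          · omega
      _ = Fintype.card (pClasses q G) * (2 * m') +
            (Finset.univ.filter fun c => m' < p * k c).card * E := by
          rw [Finset.sum_add_distrib, ← Finset.sum_filter, Finset.sum_const, Finset.sum_const,
            Finset.card_univ, smul_eq_mul, smul_eq_mul]
      _ ≤ _ := Nat.add_le_add (Nat.mul_le_mul_right _ hkc) (Nat.mul_le_mul_right _ hF)
  have hfinish : ∀ E, (∀ c, m' < p * k c → 2 * (p * k c) ≤ 2 * m' + E * m') →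
      2 * meet Q₀ + meet R₀ * E ≤ 2 * Nat.card Q₀ → False := by
    intro E hE hle
    refine absurd hk (not_lt.2 ?_)
    have := hbound (E * m') hE
    have h2 : (2 * meet Q₀ + meet R₀ * E) * m' ≤ 2 * Nat.card Q₀ * m' := Nat.mul_le_mul_right _ hle
    nlinarith
  have hgenE : ∀ c, m' < p * k c → 2 * (p * k c) ≤ 2 * m' + 2 * (p - 1) * m' := by
    intro c _
    have := Nat.mul_le_mul_left (2 * p) (hkm c)
    obtain ⟨p', rfl⟩ : ∃ p', p = p' + 1 := ⟨p - 1, by omega⟩
    rw [Nat.add_sub_cancel]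
    nlinarith
  have hQprimes : ∀ s : ℕ, s.Prime → s ∣ Nat.card Q₀ → q ≤ s := fun s hs h => by
    rw [hQcard] at h
    exact le_of_eq ((Nat.prime_dvd_prime_iff_eq hs hqp).1 (hs.dvd_of_dvd_pow h)).symm
  by_cases hW : normalizer (Q₀ : Set G) ≤ centralizer (Q₀ : Set G)
  · -- no fusion: a normal complement
    obtain ⟨K, hKn, hKc⟩ := CfsgLib.Transfer.exists_normal_complement_of_normalizer_le_centralizer
      Q₀ Q.card_coprime_index hW
    have := hKn
    have hKi : K.index = Nat.card Q₀ := hKc.symm.index_eq_card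
    have hK : ¬ q ∣ Nat.card K := by
      rw [← hKc.index_eq_card]; exact Q.not_dvd_index
    have hKi' : ∀ r : ℕ, r.Prime → r ≠ q → ¬ r ∣ K.index := fun r hr hrq h => by
      rw [hKi, hQcard] at h
      exact hrq ((Nat.prime_dvd_prime_iff_eq hr hqp).1 (hr.dvd_of_dvd_pow h))
    have hH₀K : H₀ ≤ K := le_of_coprime_index (by
      rw [hKi, hQcard, hH₀c]
      exact (hqp.coprime_iff_not_dvd.2 fun h => hqσ (mem_of_dvd_piPart hσ hqp h)).symm.pow_right _)
    have htop : normalizer (H₀ : Set G) ⊔ K = ⊤ := by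
      refine top_le_iff.1 fun g _ => ?_
      have hgK : MulAut.conj g • H₀ ≤ K := fun x hx => by
        rw [conj_smul_mem] at hx
        have := hKn.conj_mem _ (hH₀K hx) g
        rwa [show g * (g⁻¹ * x * g) * g⁻¹ = x by group] at this
      have : Group.IsNilpotent (H₀.subgroupOf K) :=
        (Group.isNilpotent_congr (subgroupOfEquivOfLe hH₀K)).2 hH₀n
      have hc1 : Nat.card (H₀.subgroupOf K) = piPart σ (Nat.card K) := by
        rw [Nat.card_congr (subgroupOfEquivOfLe hH₀K).toEquiv]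
        refine Nat.dvd_antisymm (dvd_trans ?_ (dvd_piPart_of_subgroup hσ (H₀.subgroupOf K)
          fun r hr h => ?_)) ?_
        · rw [Nat.card_congr (subgroupOfEquivOfLe hH₀K).toEquiv]
        · rw [Nat.card_congr (subgroupOfEquivOfLe hH₀K).toEquiv, hH₀c] at h
          exact mem_of_dvd_piPart hσ hr h
        · rw [hH₀c]
          exact piPart_dvd_piPart hσ K.card_subgroup_dvd_card Nat.card_pos.ne'
      obtain ⟨k₀, hk₀⟩ := exists_conj_eq hσ hc1 (H' := (MulAut.conj g • H₀).subgroupOf K) (by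
        rw [← hc1, Nat.card_congr (subgroupOfEquivOfLe hH₀K).toEquiv,
          Nat.card_congr (subgroupOfEquivOfLe hgK).toEquiv,
          ← Nat.card_congr (Subgroup.equivSMul _ _).toEquiv])
      have hn : (k₀ : G)⁻¹ * g ∈ normalizer (H₀ : Set G) := by
        refine mem_normalizer_iff.2 fun x => ?_
        constructor
        · intro hx
          have h1 : g * x * g⁻¹ ∈ MulAut.conj g • H₀ := by
            rw [conj_smul_mem]; convert hx using 1; group
          have h2 : (⟨g * x * g⁻¹, hgK h1⟩ : K) ∈ MulAut.conj k₀ • H₀.subgroupOf K := by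
            rw [← hk₀]; exact h1
          rw [conj_smul_mem] at h2
          have h3 : (k₀ : G)⁻¹ * (g * x * g⁻¹) * k₀ ∈ H₀ := h2
          convert h3 using 1; group
        · intro hx
          have h3 : (k₀ : G)⁻¹ * (g * x * g⁻¹) * k₀ ∈ H₀ := by convert hx using 1; group
          have hmemK : g * x * g⁻¹ ∈ K := by
            have := mul_mem (mul_mem k₀.2 (hH₀K h3)) (inv_mem k₀.2)
            rwa [show (k₀ : G) * ((k₀ : G)⁻¹ * (g * x * g⁻¹) * k₀) * (k₀ : G)⁻¹ = g * x * g⁻¹ by
              group] at this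
          have h2 : (⟨g * x * g⁻¹, hmemK⟩ : K) ∈ MulAut.conj k₀ • H₀.subgroupOf K := by
            rw [conj_smul_mem]; exact h3
          rw [← hk₀] at h2
          have h1 : g * x * g⁻¹ ∈ MulAut.conj g • H₀ := h2
          rw [conj_smul_mem] at h1
          convert h1 using 1; group
      have hg : g = (k₀ : G) * ((k₀ : G)⁻¹ * g) := by group
      rw [hg]
      exact mul_mem (mem_sup_right k₀.2) (mem_sup_left hn)
    obtain ⟨T⟩ : Nonempty (Sylow q (normalizer (H₀ : Set G))) := inferInstance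
    have hTc : Nat.card ((T : Subgroup _).map (normalizer (H₀ : Set G)).subtype) =
        q ^ (Nat.card G).factorization q := by
      rw [card_map_of_injective (subtype_injective _), T.card_eq_multiplicity]
      congr 1
      refine le_antisymm (((Nat.factorization_le_iff_dvd Nat.card_pos.ne' Nat.card_pos.ne').2
        (card_subgroup_dvd_card _)) q) ((hqp.pow_dvd_iff_le_factorization Nat.card_pos.ne').1 ?_)
      rw [← hQcard, ← hKi, ← relIndex_top_right, ← htop, relIndex_sup_right]
      exact index_dvd_card _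
    obtain ⟨g, hg⟩ := MulAction.exists_smul_eq G (Sylow.ofCard _ hTc) Q
    set H₁ := MulAut.conj g • H₀ with hH₁
    have : Group.IsNilpotent H₁ := CfsgLib.Solvable.isNilpotent_conj_smul H₀ g
    have hH₁c : Nat.card H₁ = m' := by
      rw [hH₁, ← Nat.card_congr (Subgroup.equivSMul _ _).toEquiv, hH₀c]
    have hnorm : ∀ z ∈ Q₀, MulAut.conj z • H₁ = H₁ := by
      intro z hz
      have hz' : g⁻¹ * z * g ∈ normalizer (H₀ : Set G) := by
        have h1 : z ∈ ((g • Sylow.ofCard _ hTc : Sylow q G) : Subgroup G) := by rw [hg]; exact hz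
        rw [Sylow.coe_subgroup_smul, conj_smul_mem] at h1
        exact map_subtype_le _ h1
      rw [hH₁, ← mul_smul, ← map_mul, show z * g = g * (g⁻¹ * z * g) by group, map_mul, mul_smul]
      congr 1
      ext x
      rw [conj_smul_mem]
      have := mem_normalizer_iff.1 (inv_mem hz') x
      rw [inv_inv] at this
      exact this.symm
    set Q₁ := Q₀ ⊓ centralizer (H₁ : Set G) with hQ₁
    have hQ₁R : Nat.card Q₁ ≤ Nat.card R₀ := by
      let Q₂ := MulAut.conj g⁻¹ • Q₁
      have hle : Q₂ ≤ C₀ := by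
        intro x hx
        rw [conj_smul_mem, inv_inv] at hx
        refine mem_centralizer_iff.2 fun h hh => ?_
        have h2 := mem_centralizer_iff.1 hx.2 (g * h * g⁻¹)
          (by rw [SetLike.mem_coe, hH₁, conj_smul_mem]; convert (show h ∈ H₀ from hh) using 1; group)
        calc h * x = g⁻¹ * ((g * h * g⁻¹) * (g * x * g⁻¹)) * g := by group
          _ = g⁻¹ * ((g * x * g⁻¹) * (g * h * g⁻¹)) * g := by rw [h2]
          _ = x * h := by group
      have hp' : IsPGroup q (Q₂.subgroupOf C₀) :=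
        (((Q.2.to_le inf_le_left : IsPGroup q Q₁).of_equiv (Subgroup.equivSMul _ Q₁))).of_equiv
          (subgroupOfEquivOfLe hle).symm
      obtain ⟨T', hT'⟩ := hp'.exists_le_sylow
      have := card_le_of_le hT'
      rw [Nat.card_congr (subgroupOfEquivOfLe hle).toEquiv,
        ← Nat.card_congr (Subgroup.equivSMul _ _).toEquiv, T'.card_eq_multiplicity] at this
      rwa [hR₀card]
    have hper : ∀ c, p ^ 2 * k c ≤
        m' + if y c ∈ centralizer (H₁ : Set G) then (p ^ 2 - 1) * m' else 0 := by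
      intro c
      split_ifs with hc
      · calc p ^ 2 * k c ≤ p ^ 2 * m' := Nat.mul_le_mul_left _ (hkm c)
          _ = (1 + (p ^ 2 - 1)) * m' := by
              rw [Nat.add_sub_cancel' (Nat.one_le_pow _ _ (by omega))]
          _ = _ := by ring
      · obtain ⟨a, ha⟩ := exists_pow_eq_one_of_isPGroup Q.2 (f c).2
        have hd := piPart_centralizer_dvd hK hKi' hσ hqσ hH₁c ha (hnorm _ (f c).2)
        have h2 := sq_mul_fixed_le ha H₁ (conj_mem_of_fixed (hnorm _ (f c).2)) (p := p)
          (fun s hs h => by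
            have := mem_of_dvd_piPart hσ hs (hH₁c ▸ h)
            exact ⟨hpσ s this, hσlt s this⟩)
          (fun h => hc (mem_centralizer_iff.2 fun x hx => mem_centralizer_singleton_iff.1 (h hx)))
        rw [hH₁c] at h2
        calc p ^ 2 * k c ≤ p ^ 2 * Nat.card ↥(H₁ ⊓ centralizer ({y c} : Set G)) :=
              Nat.mul_le_mul_left _ ((hklem c).trans (Nat.le_of_dvd Nat.card_pos hd))
          _ ≤ _ := by simpa using h2
    have hF : (Finset.univ.filter fun c => y c ∈ centralizer (H₁ : Set G)).card ≤ Nat.card R₀ := by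
      refine le_trans ?_ hQ₁R
      rw [← Fintype.card_subtype, ← Nat.card_eq_fintype_card]
      exact Nat.card_le_card_of_injective
        (fun c : {c // y c ∈ centralizer (H₁ : Set G)} => (⟨y c.1, (f c.1).2, c.2⟩ : Q₁))
        fun c d h => Subtype.ext (hfinj (Subtype.ext (congrArg (fun x : Q₁ => (x : G)) h)))
    have hmain : p ^ 2 * Nat.card (piClasses π G) ≤ Nat.card Q₀ * m' + Nat.card R₀ * ((p ^ 2 - 1) * m') :=
      calc p ^ 2 * Nat.card (piClasses π G) ≤ p ^ 2 * ∑ c, k c := Nat.mul_le_mul_left _ hsum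
        _ = ∑ c, p ^ 2 * k c := Finset.mul_sum _ _ _
        _ ≤ ∑ c, (m' + if y c ∈ centralizer (H₁ : Set G) then (p ^ 2 - 1) * m' else 0) :=
            Finset.sum_le_sum fun c _ => hper c
        _ = Fintype.card (pClasses q G) * m' +
            (Finset.univ.filter fun c => y c ∈ centralizer (H₁ : Set G)).card * ((p ^ 2 - 1) * m') := by
            rw [Finset.sum_add_distrib, ← Finset.sum_filter, Finset.sum_const, Finset.sum_const,
              Finset.card_univ, smul_eq_mul, smul_eq_mul]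
        _ ≤ _ := Nat.add_le_add (Nat.mul_le_mul_right _ hkc') (Nat.mul_le_mul_right _ hF)
    obtain ⟨p', rfl⟩ : ∃ p', p = p' + 1 := ⟨p - 1, by omega⟩
    rw [show (p' + 1) ^ 2 - 1 = p' * (p' + 2) by
      rw [show (p' + 1) ^ 2 = p' * (p' + 2) + 1 by ring, Nat.add_sub_cancel]] at hmain
    have h1 : Nat.card R₀ * (p' + 2) ≤ Nat.card Q₀ :=
      le_trans (by rw [mul_comm]; exact Nat.mul_le_mul_right _ (by omega)) hR₀le
    have h2 : (p' + 1) * (Nat.card Q₀ * m' + 1) ≤ (p' + 1) * ((p' + 1) * Nat.card (piClasses π G)) :=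
      Nat.mul_le_mul_left _ hk
    nlinarith [Nat.mul_le_mul_right (p' * m') h1]
  · -- fusion in the Sylow subgroup
    obtain ⟨l, hlN, hlC⟩ := SetLike.not_le_iff_exists.1 hW
    have hQb : 2 * meet Q₀ ≤ Nat.card Q₀ + Nat.card ↥(Q₀ ⊓ centralizer ({l} : Set G)) := by
      simpa using mul_meet_le Q₀ l (fun x hx => (mem_normalizer_iff.1 hlN x).1 hx) 2
        (fun d hd hd1 => by
          rcases d with - | - | d
          · exact absurd (zero_dvd_iff.1 hd) (orderOf_pos l).ne'
          · exact absurd rfl hd1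
          · omega)
    have hCl : q * Nat.card ↥(Q₀ ⊓ centralizer ({l} : Set G)) ≤ Nat.card Q₀ :=
      mul_card_le_of_not_le inf_le_left (fun h => hlC (mem_centralizer_iff.2 fun x hx =>
        mem_centralizer_singleton_iff.1 (h hx).2)) hQprimes
    have hQq : q * (2 * meet Q₀) ≤ (q + 1) * Nat.card Q₀ := by
      have := Nat.mul_le_mul_left q hQb
      rw [mul_add] at this
      rw [add_mul, one_mul]
      omega
    have hmR := meet_le_card R₀
    have hcase : ∀ E, (∀ c, m' < p * k c → 2 * (p * k c) ≤ 2 * m' + E * m') →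
        q * (meet R₀ * E) ≤ (q - 1) * Nat.card Q₀ → False := by
      intro E hE hle
      refine hfinish E hE (Nat.le_of_mul_le_mul_left ?_ hqp.pos)
      obtain ⟨q', hq'⟩ : ∃ q', q = q' + 1 := ⟨q - 1, by omega⟩
      rw [hq', Nat.add_sub_cancel] at hle
      rw [hq'] at hQq ⊢
      nlinarith
    have hNQ : ∀ n ∈ normalizer (H₀ : Set G), ∀ x ∈ C₀, n * x * n⁻¹ ∈ C₀ := by
      intro n hn x hx
      refine mem_centralizer_iff.2 fun h hh => ?_
      have h1 : n⁻¹ * h * n ∈ H₀ := by simpa using (mem_normalizer_iff.1 (inv_mem hn) h).1 hh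
      calc h * (n * x * n⁻¹) = n * ((n⁻¹ * h * n) * x) * n⁻¹ := by group
        _ = n * (x * (n⁻¹ * h * n)) * n⁻¹ := by rw [mem_centralizer_iff.1 hx _ h1]
        _ = _ := by group
    by_cases hA : ∃ l₀ ∈ normalizer (H₀ : Set G) ⊓ normalizer (R₀ : Set G),
        l₀ ∉ centralizer (R₀ : Set G)
    · obtain ⟨l₀, hl₀, hl₀C⟩ := hA
      have hRb : 2 * meet R₀ ≤ Nat.card R₀ + Nat.card ↥(R₀ ⊓ centralizer ({l₀} : Set G)) := by
        simpa using mul_meet_le R₀ l₀ (fun x hx => (mem_normalizer_iff.1 hl₀.2 x).1 hx) 2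
          (fun d hd hd1 => by
            rcases d with - | - | d
            · exact absurd (zero_dvd_iff.1 hd) (orderOf_pos l₀).ne'
            · exact absurd rfl hd1
            · omega)
      have hCl₀ : q * Nat.card ↥(R₀ ⊓ centralizer ({l₀} : Set G)) ≤ Nat.card R₀ :=
        mul_card_le_of_not_le inf_le_left (fun h => hl₀C (mem_centralizer_iff.2 fun x hx =>
          mem_centralizer_singleton_iff.1 (h hx).2)) fun s hs h => by
            rw [hR₀card] at h
            exact le_of_eq ((Nat.prime_dvd_prime_iff_eq hs hqp).1 (hs.dvd_of_dvd_pow h)).symm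
      refine hcase (2 * (p - 1)) hgenE ?_
      obtain ⟨p', rfl⟩ : ∃ p', p = p' + 1 := ⟨p - 1, by omega⟩
      obtain ⟨q', hq'⟩ : ∃ q', q = q' + 1 := ⟨q - 1, by omega⟩
      rw [hq'] at hR₀le hCl₀ hpq ⊢
      simp only [Nat.add_sub_cancel]
      have h1 := Nat.mul_le_mul_left (q' + 1) hRb
      rw [mul_add] at h1
      have h3 : (q' + 1) * (2 * meet R₀) ≤ (q' + 2) * Nat.card R₀ := by linarith
      have h2 : p' * (q' + 2) ≤ q' * (q' + 1) := by
        obtain ⟨d, hd⟩ : ∃ d, q' = p' + 1 + d := ⟨q' - p' - 1, by omega⟩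
        rw [hd]
        nlinarith
      calc (q' + 1) * (meet R₀ * (2 * p')) = p' * ((q' + 1) * (2 * meet R₀)) := by ring
        _ ≤ p' * ((q' + 2) * Nat.card R₀) := Nat.mul_le_mul_left _ h3
        _ = p' * (q' + 2) * Nat.card R₀ := by ring
        _ ≤ q' * (q' + 1) * Nat.card R₀ := Nat.mul_le_mul_right _ h2
        _ = q' * ((q' + 1) * Nat.card R₀) := by ring
        _ ≤ _ := Nat.mul_le_mul_left _ hR₀le
    push Not at hA
    by_cases hM : normalizer (H₀ : Set G) ≤ C₀
    swap
    · obtain ⟨n, hn, hnC⟩ := SetLike.not_le_iff_exists.1 hM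
      -- adjust `n` to normalise `R₀`
      obtain ⟨c₁, hc₁C, hc₁N⟩ : ∃ c₁ ∈ C₀, c₁ * n ∈ normalizer (R₀ : Set G) := by
        have hle : MulAut.conj n • R₀ ≤ C₀ := fun x hx => by
          rw [conj_smul_mem] at hx
          have := hNQ n hn _ (hR₀c hx)
          rwa [show n * (n⁻¹ * x * n) * n⁻¹ = x by group] at this
        have hc : Nat.card ((MulAut.conj n • R₀).subgroupOf C₀) =
            q ^ (Nat.card C₀).factorization q := by
          rw [Nat.card_congr (subgroupOfEquivOfLe hle).toEquiv,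
            ← Nat.card_congr (Subgroup.equivSMul _ _).toEquiv, hR₀card]
        obtain ⟨c₁, hc₁⟩ := MulAction.exists_smul_eq C₀ (Sylow.ofCard _ hc) RC
        refine ⟨c₁, c₁.2, mem_normalizer_iff.2 fun x => ?_⟩
        have hmap : MulAut.conj (c₁ : G) • (MulAut.conj n • R₀) = R₀ := by
          have h1 := congrArg (fun T : Sylow q C₀ => (T : Subgroup C₀).map C₀.subtype) hc₁
          simp only [Sylow.coe_subgroup_smul] at h1
          rw [← hR₀] at h1
          refine Eq.trans ?_ h1
          ext z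
          rw [conj_smul_mem, mem_map]
          constructor
          · intro hz
            have hzC : z ∈ C₀ := by
              have := mul_mem (mul_mem c₁.2 (hle hz)) (inv_mem c₁.2)
              rwa [show (c₁ : G) * ((c₁ : G)⁻¹ * z * c₁) * (c₁ : G)⁻¹ = z by group] at this
            exact ⟨⟨z, hzC⟩, by rw [conj_smul_mem]; exact hz, rfl⟩
          · rintro ⟨w, hw, rfl⟩
            rw [conj_smul_mem] at hw
            exact hw
        rw [← mul_smul, ← map_mul] at hmap
        refine Iff.trans ?_ (SetLike.ext_iff.1 hmap _)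
        rw [conj_smul_mem]
        simp [mul_assoc]
      set l₁ := c₁ * n with hl₁
      have hl₁H : l₁ ∈ normalizer (H₀ : Set G) := mul_mem (centralizer_le_normalizer _ hc₁C) hn
      have hl₁C : l₁ ∉ C₀ := fun h => hnC (by
        have := mul_mem (inv_mem hc₁C) h
        rwa [hl₁, inv_mul_cancel_left] at this)
      have hl₁R : l₁ ∈ centralizer (R₀ : Set G) := hA l₁ ⟨hl₁H, hc₁N⟩
      refine hcase (p - 1) (fun c hc => ?_) ?_
      · obtain ⟨g, hg⟩ := hinR c hc
        obtain ⟨-, -, -, -, heq⟩ := hfull c hc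
        set C := centralizer ({y c} : Set G) with hCdef
        set L := MulAut.conj g⁻¹ • H₀ with hLdef
        have hLC : L ≤ C := fun x hx => by
          rw [hLdef, conj_smul_mem, inv_inv] at hx
          refine mem_centralizer_singleton_iff.2 ?_
          have h2 := mem_centralizer_iff.1 (hR₀c hg) _ hx
          calc x * y c = g⁻¹ * ((g * x * g⁻¹) * (g * y c * g⁻¹)) * g := by group
            _ = g⁻¹ * ((g * y c * g⁻¹) * (g * x * g⁻¹)) * g := by rw [h2]
            _ = y c * x := by group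
        have hl' : g⁻¹ * l₁ * g ∈ C := by
          refine mem_centralizer_singleton_iff.2 ?_
          have h2 := mem_centralizer_iff.1 hl₁R _ hg
          calc g⁻¹ * l₁ * g * y c = g⁻¹ * (l₁ * (g * y c * g⁻¹)) * g := by group
            _ = g⁻¹ * ((g * y c * g⁻¹) * l₁) * g := by rw [h2]
            _ = y c * (g⁻¹ * l₁ * g) := by group
        have : Group.IsNilpotent L := CfsgLib.Solvable.isNilpotent_conj_smul H₀ g⁻¹
        have : Group.IsNilpotent (L.subgroupOf C) :=
          (Group.isNilpotent_congr (subgroupOfEquivOfLe hLC)).2 ‹_›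
        have hLc : Nat.card L = m' := by
          rw [hLdef, ← Nat.card_congr (Subgroup.equivSMul _ _).toEquiv, hH₀c]
        have hLc' : Nat.card (L.subgroupOf C) = piPart σ (Nat.card C) := by
          rw [Nat.card_congr (subgroupOfEquivOfLe hLC).toEquiv, hLc, heq]
        have h1 := card_piClasses_le_meet hσ hLc'
        have h2 := mul_meet_le (L.subgroupOf C) ⟨_, hl'⟩ (fun x hx => by
          show g⁻¹ * l₁ * g * (x : G) * (g⁻¹ * l₁ * g)⁻¹ ∈ L
          have hx' : (x : G) ∈ L := hx
          rw [hLdef, conj_smul_mem, inv_inv] at hx' ⊢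
          have := (mem_normalizer_iff.1 hl₁H _).1 hx'
          convert this using 1
          group) 2 (fun d hd hd1 => by
            rcases d with - | - | d
            · exact absurd (zero_dvd_iff.1 hd) (orderOf_pos _).ne'
            · exact absurd rfl hd1
            · omega)
        have h3 : p * Nat.card ↥(L.subgroupOf C ⊓ centralizer ({⟨_, hl'⟩} : Set C)) ≤
            Nat.card (L.subgroupOf C) := by
          refine mul_card_le_of_not_le inf_le_left (fun h => hl₁C (mem_centralizer_iff.2 fun x hx => ?_))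
            fun s hs hd => hpσ s (mem_of_dvd_piPart hσ hs (hLc' ▸ hd))
          have hxL : g⁻¹ * x * g ∈ L := by
            rw [hLdef, conj_smul_mem]; convert (show x ∈ H₀ from hx) using 1; group
          have h4 : g⁻¹ * x * g * (g⁻¹ * l₁ * g) = g⁻¹ * l₁ * g * (g⁻¹ * x * g) :=
            congrArg Subtype.val (mem_centralizer_singleton_iff.1 (h (x := ⟨_, hLC hxL⟩) hxL).2)
          calc x * l₁ = g * (g⁻¹ * x * g * (g⁻¹ * l₁ * g)) * g⁻¹ := by group
            _ = g * (g⁻¹ * l₁ * g * (g⁻¹ * x * g)) * g⁻¹ := by rw [h4]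
            _ = l₁ * x := by group
        rw [hLc', heq] at h2 h3
        have h1' : k c ≤ meet (L.subgroupOf C) := h1
        obtain ⟨p', rfl⟩ : ∃ p', p = p' + 1 := ⟨p - 1, by omega⟩
        simp only [Nat.add_sub_cancel]
        nlinarith [Nat.mul_le_mul_left (p' + 1) h2, Nat.mul_le_mul_left (2 * (p' + 1)) h1']
      · calc q * (meet R₀ * (p - 1)) ≤ q * (Nat.card R₀ * (q - 1)) :=
              Nat.mul_le_mul_left _ (Nat.mul_le_mul hmR (by omega))
          _ = (q - 1) * (q * Nat.card R₀) := by ring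
          _ ≤ _ := Nat.mul_le_mul_left _ hR₀le
    -- `H₀` is central in its normalizer
    by_cases hsmall : 2 * (p - 1) ≤ q - 1
    · refine hcase (2 * (p - 1)) hgenE ?_
      calc q * (meet R₀ * (2 * (p - 1))) ≤ q * (Nat.card R₀ * (q - 1)) :=
            Nat.mul_le_mul_left _ (Nat.mul_le_mul hmR hsmall)
        _ = (q - 1) * (q * Nat.card R₀) := by ring
        _ ≤ _ := Nat.mul_le_mul_left _ hR₀le
    have hHall := hall_coprime hσ hH₀c
    obtain ⟨K, hKn, hKc⟩ :=
      CfsgLib.Transfer.exists_normal_complement_of_normalizer_le_centralizer H₀ hHall hM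
    have := hKn
    have hKi : K.index = m' := hKc.symm.index_eq_card.trans hH₀c
    have hKcard : ∀ r : ℕ, r.Prime → r ∣ Nat.card K → r ∉ σ := fun r hr h hrσ => by
      rw [← hKc.index_eq_card] at h
      exact Nat.not_coprime_of_dvd_of_dvd hr.one_lt (by
        rw [hH₀c]
        refine (hr.dvd_iff_one_le_factorization hm'pos.ne').2 ?_
        rw [hm', piPart_factorization hσ, if_pos hrσ]
        refine (hr.dvd_iff_one_le_factorization Nat.card_pos.ne').1 (h.trans ?_)
        exact H₀.index_dvd_card) h hHall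
    have hQK : Q₀ ≤ K := le_of_coprime_index (by
      rw [hKi, hQcard]
      exact (hqp.coprime_iff_not_dvd.2 fun h => hqσ (mem_of_dvd_piPart hσ hqp h)).pow_left _)
    set N := normalizer (Q₀ : Set G) with hN
    have htop : N ⊔ K = ⊤ := by
      have := Sylow.normalizer_sup_eq_top' Q (N := K) hQK
      exact this
    have hrel : (K.subgroupOf N).index = m' := by
      show K.relIndex N = m'
      rw [← relIndex_sup_right, htop, relIndex_top_right, hKi]
    have hcopN : (Nat.card (K.subgroupOf N)).Coprime (K.subgroupOf N).index := by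
      rw [hrel]
      refine Nat.coprime_of_dvd fun s hs h1 h2 => hKcard s hs ?_ (mem_of_dvd_piPart hσ hs h2)
      rw [← card_map_of_injective N.subtype_injective, subgroupOf_map_subtype] at h1
      exact h1.trans (card_dvd_of_le inf_le_left)
    obtain ⟨U', hU'⟩ := exists_right_complement'_of_coprime hcopN
    set U := U'.map N.subtype with hUdef
    have hUc : Nat.card U = m' := by
      rw [hUdef, card_map_of_injective N.subtype_injective, ← hU'.symm.index_eq_card, hrel]
    have hUnot : ¬ U ≤ centralizer (Q₀ : Set G) := by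
      intro hle
      obtain ⟨x, hx⟩ := exists_conj_eq hσ hH₀c hUc
      apply hRQ
      refine le_antisymm ?_ ?_
      · exact le_trans (Nat.le_mul_of_pos_left _ hqp.pos) hR₀le
      have hle' : MulAut.conj x⁻¹ • Q₀ ≤ C₀ := by
        intro z hz
        rw [conj_smul_mem, inv_inv] at hz
        refine mem_centralizer_iff.2 fun h hh => ?_
        have hu : x * h * x⁻¹ ∈ U := by rw [hx, conj_smul_mem]; convert (show h ∈ H₀ from hh) using 1; group
        have h2 := mem_centralizer_iff.1 (hle hu) _ hz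
        calc h * z = x⁻¹ * ((x * h * x⁻¹) * (x * z * x⁻¹)) * x := by group
          _ = x⁻¹ * ((x * z * x⁻¹) * (x * h * x⁻¹)) * x := by rw [← h2]
          _ = z * h := by group
      have hp' : IsPGroup q ((MulAut.conj x⁻¹ • Q₀).subgroupOf C₀) :=
        ((Q.2 : IsPGroup q Q₀).of_equiv (Subgroup.equivSMul _ Q₀)).of_equiv
          (subgroupOfEquivOfLe hle').symm
      obtain ⟨T', hT'⟩ := hp'.exists_le_sylow
      have := card_le_of_le hT'
      rw [Nat.card_congr (subgroupOfEquivOfLe hle').toEquiv,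
        ← Nat.card_congr (Subgroup.equivSMul _ _).toEquiv, T'.card_eq_multiplicity] at this
      rwa [hR₀card]
    obtain ⟨r, hr, hrU, w, hwU, ⟨b, hb⟩, hwC⟩ := exists_prime_power_not_mem hUnot
    have := Fact.mk hr
    have hrσ : r ∈ σ := mem_of_dvd_piPart hσ hr (hUc ▸ hrU)
    have hwN : ∀ x ∈ Q₀, w * x * w⁻¹ ∈ Q₀ := fun x hx =>
      (mem_normalizer_iff.1 (map_subtype_le _ hwU) x).1 hx
    have hrq : r < q := hσlt r hrσ
    have hpr : p ≤ r := hpσ r hrσ
    have hqQ : ¬ r ∣ Nat.card Q₀ := fun h => absurd (hQprimes r hr h) (not_le.2 hrq)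
    obtain ⟨i, hi2, himod, hi⟩ := exists_index_modEq (q := r) (y := w) (a := b)
      (hb ▸ pow_orderOf_eq_one w) Q₀ hwN hqQ
      (fun h => hwC (mem_centralizer_iff.2 fun x hx => mem_centralizer_singleton_iff.1 (h hx)))
    have hisq : q ^ 2 ≤ i := by
      obtain ⟨j, -, hj⟩ := (Nat.dvd_prime_pow hqp).1 (hQcard ▸ Dvd.intro _ hi.symm : i ∣ _)
      subst hj
      refine Nat.pow_le_pow_right hqp.pos ?_
      by_contra hj2
      interval_cases j
      · simp at hi2
      rw [pow_one] at himod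
      have h5 := (Nat.modEq_iff_dvd' (by omega : 1 ≤ q)).1 himod.symm
      obtain ⟨t, ht⟩ := h5
      have ht2 : t < 2 := by
        by_contra hge
        have := Nat.mul_le_mul_left r (show 2 ≤ t by omega)
        omega
      interval_cases t
      · omega
      · rcases hqp.eq_two_or_odd with h6 | h6
        · omega
        rcases hr.eq_two_or_odd with h7 | h7 <;> omega
    have hQr : r * meet Q₀ ≤ Nat.card Q₀ + (r - 1) * Nat.card ↥(Q₀ ⊓ centralizer ({w} : Set G)) :=
      mul_meet_le Q₀ w hwN r fun d hd hd1 => by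
        rw [hb] at hd
        obtain ⟨j, -, rfl⟩ := (Nat.dvd_prime_pow hr).1 hd
        exact Nat.le_self_pow (fun e => hd1 (by rw [e, pow_zero])) r
    refine hfinish (2 * (p - 1)) hgenE ?_
    have hC : q ^ 2 * Nat.card ↥(Q₀ ⊓ centralizer ({w} : Set G)) ≤ Nat.card Q₀ := by
      rw [hi]; exact Nat.mul_le_mul_right _ hisq
    obtain ⟨p', rfl⟩ : ∃ p', p = p' + 1 := ⟨p - 1, by omega⟩
    obtain ⟨r', rfl⟩ : ∃ r', r = r' + 1 := ⟨r - 1, by omega⟩
    simp only [Nat.add_sub_cancel] at hQr ⊢
    have h := final_arith hQr hC hR₀le (show p' ≤ r' by omega) hrq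
    have h' := Nat.mul_le_mul_right p' hmR
    calc 2 * meet Q₀ + meet R₀ * (2 * p') = 2 * (meet Q₀ + meet R₀ * p') := by ring
      _ ≤ 2 * Nat.card Q₀ := Nat.mul_le_mul_left _ (le_trans (Nat.add_le_add_left h' _) h)

/-- Many classes of `π`-elements force a nilpotent Hall `π`-subgroup. -/
theorem exists_nilpotent_hall (π : Finset ℕ) : ∀ (G : Type u) [Group G] [Finite G] (p : ℕ), 2 ≤ p →
    (∀ r ∈ π, r.Prime) → (∀ r ∈ π, p ≤ r) → piPart π (Nat.card G) < p * Nat.card (piClasses π G) →
    ∃ H : Subgroup G, Group.IsNilpotent H ∧ Nat.card H = piPart π (Nat.card G) := by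
  induction π using Finset.strongInduction with
  | H π ih =>
    intro G _ _ p hp2 hπ hp hk
    rcases π.eq_empty_or_nonempty with rfl | hne
    · exact ⟨⊥, inferInstance, by simp [piPart]⟩
    exact step hπ hp2 hp (π.max'_mem hne) (fun r hr => π.le_max' r hr)
      (fun H => ih _ (Finset.erase_ssubset (π.max'_mem hne)) H p hp2
        (fun r hr => hπ r (Finset.mem_of_mem_erase hr)) fun r hr => hp r (Finset.mem_of_mem_erase hr))
      hk

end CfsgLib.StructB.PiHall
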