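import Cfsg.Agent.Lib.StructB.PiHall.Main

/-!
# Many classes of `π`-elements: from the statement hypotheses to the Hall subgroup
-/

set_option autoImplicit false

namespace CfsgLib.StructB.PiHall

open Subgroup CfsgLib.Coprime

universe u

theorem exists_hall_of_set {G : Type u} [Group G] [Finite G] (π : Set ℕ) (hπ : ∀ q ∈ π, q.Prime)
    (p : ℕ) (hp2 : 2 ≤ p) (hmin : ∀ q ∈ π, p ≤ q) (m : ℕ) (hm : m ∣ Nat.card G)
    (hmπ : ∀ q : ℕ, q.Prime → q ∣ m → q ∈ π) (hm' : ∀ q ∈ π, ¬ q ∣ Nat.card G / m) (k : ℕ)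
    (hk : k = Nat.card {C : ConjClasses G //
      ∀ q : ℕ, q.Prime → (∃ g : G, ConjClasses.mk g = C ∧ q ∣ orderOf g) → q ∈ π})
    (hmany : m < p * k) :
    ∃ H : Subgroup G, Nat.card H = m ∧ Group.IsNilpotent H ∧ k ≤ Nat.card (ConjClasses H) ∧
      ∀ s : ℕ, s.Prime → s ∣ Nat.card H → p ≤ s := by
  classical
  set π' : Finset ℕ := (Nat.card G).primeFactors.filter (fun r => r ∈ π) with hπ'
  have hpr : ∀ r ∈ π', r.Prime := fun r hr => hπ r (Finset.mem_filter.1 hr).2
  have hp' : ∀ r ∈ π', p ≤ r := fun r hr => hmin r (Finset.mem_filter.1 hr).2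
  have hm0 : m ≠ 0 := ne_zero_of_dvd_ne_zero Nat.card_pos.ne' hm
  have hmem : ∀ s : ℕ, s.Prime → s ∣ Nat.card G → (s ∈ π' ↔ s ∈ π) := fun s hs hsd =>
    ⟨fun h => (Finset.mem_filter.1 h).2, fun h => Finset.mem_filter.2
      ⟨Nat.mem_primeFactors.2 ⟨hs, hsd, Nat.card_pos.ne'⟩, h⟩⟩
  have hmeq : piPart π' (Nat.card G) = m := by
    refine Nat.eq_of_factorization_eq (piPart_ne_zero hpr _) hm0 fun s => ?_
    rw [piPart_factorization hpr]
    by_cases hs : s.Prime
    swap
    · simp [Nat.factorization_eq_zero_of_not_prime _ hs]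
    split_ifs with hsπ
    · have h0 : (Nat.card G / m).factorization s = 0 :=
        Nat.factorization_eq_zero_of_not_dvd (hm' s (Finset.mem_filter.1 hsπ).2)
      have h2 : (Nat.card G).factorization s =
          m.factorization s + (Nat.card G / m).factorization s := by
        conv_lhs => rw [← Nat.mul_div_cancel' hm]
        rw [Nat.factorization_mul hm0 (fun h => by
          have h3 := Nat.mul_div_cancel' hm
          rw [h, mul_zero] at h3
          exact Nat.card_pos.ne' h3.symm), Finsupp.add_apply]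
      omega
    · exact (Nat.factorization_eq_zero_of_not_dvd
        fun h => hsπ ((hmem s hs (h.trans hm)).2 (hmπ s hs h))).symm
  have hcl : Nat.card (piClasses π' G) = k := by
    rw [hk]
    refine Nat.card_congr (Equiv.subtypeEquivRight fun c => ⟨fun h q hq hg => ?_, fun h x hx r hr hrd => ?_⟩)
    · obtain ⟨g, rfl, hgq⟩ := hg
      exact (Finset.mem_filter.1 (h g ConjClasses.mem_carrier_mk q hq hgq)).2
    · exact (hmem r hr (hrd.trans (orderOf_dvd_natCard x))).2
        (h r hr ⟨x, ConjClasses.mem_carrier_iff_mk_eq.1 hx, hrd⟩)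
  obtain ⟨H, hH, hHc⟩ := exists_nilpotent_hall π' G p hp2 hpr hp' (by rw [hmeq, hcl]; exact hmany)
  refine ⟨H, hHc.trans hmeq, hH, ?_, fun s hs h => hp' s (mem_of_dvd_piPart hpr hs (hHc ▸ h))⟩
  have := hH
  exact hcl ▸ (card_piClasses_le_meet hpr hHc).trans (meet_le_conjClasses H)

end CfsgLib.StructB.PiHall
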